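import Groth.Agent.EtGlueLib.Basic
import Mathlib.LinearAlgebra.TensorProduct.Tower

/-! Beauville–Laszlo glueing of modules. -/

universe u

open TensorProduct

namespace Groth.Agent.EtGlueLib

variable {R R' : Type u} [CommRing R] [CommRing R'] [Algebra R R'] {f : R}
  (h : EtGlue.IsGlueingPair R R' f)
  {M' : Type u} [AddCommGroup M'] [Module R M'] [Module R' M'] [IsScalarTower R R' M']
  {M₁ : Type u} [AddCommGroup M₁] [Module R M₁] (hf : Function.Bijective fun x : M₁ => f • x)
  (α : LocalizedModule (Submonoid.powers (algebraMap R R' f)) M' ≃ₗ[R'] R' ⊗[R] M₁)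

omit hf in
/-- `M' → R' ⊗ M₁`, the localization map followed by `α`. -/
noncomputable def toTensor : M' →ₗ[R'] R' ⊗[R] M₁ :=
  α.toLinearMap ∘ₗ LocalizedModule.mkLinearMap (Submonoid.powers (algebraMap R R' f)) M'

omit hf in
/-- The glued module. -/
noncomputable def glued : Submodule R (M' × M₁) :=
  LinearMap.ker (((toTensor α).restrictScalars R) ∘ₗ LinearMap.fst R M' M₁ -
    (TensorProduct.mk R R' M₁ 1) ∘ₗ LinearMap.snd R M' M₁)

omit hf in
lemma mem_glued {x : M' × M₁} : x ∈ glued α ↔ toTensor α x.1 = (1 : R') ⊗ₜ[R] x.2 := by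
  simp [glued, sub_eq_zero]

omit hf in
lemma toTensor_eq_zero {x : M'} (hx : toTensor α x = 0) : ∃ n : ℕ, f ^ n • x = 0 := by
  have : LocalizedModule.mkLinearMap (Submonoid.powers (algebraMap R R' f)) M' x = 0 := by
    simpa [toTensor] using hx
  obtain ⟨⟨_, n, rfl⟩, hn⟩ := (IsLocalizedModule.eq_zero_iff (Submonoid.powers (algebraMap R R' f)) _).mp this
  refine ⟨n, ?_⟩
  rw [← algebraMap_smul R', map_pow]
  exact hn

omit hf in
lemma exists_toTensor (ξ : R' ⊗[R] M₁) : ∃ (n : ℕ) (x : M'), toTensor α x = f ^ n • ξ := by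
  obtain ⟨⟨x, ⟨_, n, rfl⟩⟩, hx⟩ := IsLocalizedModule.surj (Submonoid.powers (algebraMap R R' f))
    (LocalizedModule.mkLinearMap (Submonoid.powers (algebraMap R R' f)) M') (α.symm ξ)
  refine ⟨n, x, ?_⟩
  have hx' : (algebraMap R R' f) ^ n • α.symm ξ =
      LocalizedModule.mkLinearMap (Submonoid.powers (algebraMap R R' f)) M' x := hx
  show α (LocalizedModule.mkLinearMap (Submonoid.powers (algebraMap R R' f)) M' x) = _
  rw [← hx', map_smul, LinearEquiv.apply_symm_apply, ← algebraMap_smul R' (f ^ n) ξ, map_pow]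

include hf in
lemma pow_bijective (n : ℕ) : Function.Bijective fun x : M₁ => f ^ n • x := by
  induction n with
  | zero => simp [Function.Bijective, Function.Injective, Function.Surjective]
  | succ n ih =>
    have : (fun x : M₁ => f ^ (n + 1) • x) = (fun x : M₁ => f ^ n • x) ∘ (fun x => f • x) := by
      funext x; simp [pow_succ, mul_smul]
    rw [this]; exact ih.comp hf

omit hf in
/-- The projection to `M'`. -/
noncomputable def gluedFst : glued α →ₗ[R] M' := (LinearMap.fst R M' M₁).comp (glued α).subtype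

omit hf in
/-- The projection to `M₁`. -/
noncomputable def gluedSnd : glued α →ₗ[R] M₁ := (LinearMap.snd R M' M₁).comp (glued α).subtype

include hf in
lemma isLocalizedModule_gluedSnd : IsLocalizedModule (Submonoid.powers f) (gluedSnd α) where
  map_units := by
    rintro ⟨_, n, rfl⟩
    rw [Module.End.isUnit_iff]
    exact pow_bijective hf n
  surj := fun y => by
    obtain ⟨n, x, hx⟩ := exists_toTensor α ((1 : R') ⊗ₜ[R] y)
    refine ⟨⟨⟨(x, f ^ n • y), (mem_glued α).mpr (by rw [hx, TensorProduct.tmul_smul])⟩, ⟨f ^ n, n, rfl⟩⟩, rfl⟩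
  exists_of_eq := fun {a b} hab => by
    have h0 : toTensor α ((a : M' × M₁).1 - (b : M' × M₁).1) = 0 := by
      rw [map_sub, (mem_glued α).mp a.2, (mem_glued α).mp b.2,
        show (a : M' × M₁).2 = (b : M' × M₁).2 from hab, sub_self]
    obtain ⟨n, hn⟩ := toTensor_eq_zero α h0
    refine ⟨⟨f ^ n, n, rfl⟩, ?_⟩
    refine Subtype.ext (Prod.ext ?_ ?_)
    · rw [smul_sub, sub_eq_zero] at hn
      exact hn
    · show f ^ n • (a : M' × M₁).2 = f ^ n • (b : M' × M₁).2
      rw [show (a : M' × M₁).2 = (b : M' × M₁).2 from hab]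

include h hf in
lemma eq_zero_of_torsion {m : glued α} (hm : ∃ n : ℕ, f ^ n • m = 0)
    (h1 : (m : M' × M₁).1 = 0) : m = 0 := by
  obtain ⟨n, hn⟩ := hm
  refine Subtype.ext (Prod.ext h1 ((pow_bijective hf n).1 ?_))
  show f ^ n • (m : M' × M₁).2 = f ^ n • (0 : M₁)
  rw [smul_zero]
  exact congrArg (fun z : glued α => (z : M' × M₁).2) hn

include h hf in
lemma liftBaseChange_gluedFst_bijective :
    Function.Bijective (LinearMap.liftBaseChange R' (gluedFst α)) := by
  constructor
  · rw [injective_iff_map_eq_zero]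
    intro ξ hξ
    have key : ∀ ζ : R' ⊗[R] glued α, (gluedSnd α).lTensor R' ζ =
        toTensor α (LinearMap.liftBaseChange R' (gluedFst α) ζ) := by
      intro ζ
      induction ζ with
      | zero => simp
      | tmul a m =>
        rw [LinearMap.lTensor_tmul, LinearMap.liftBaseChange_tmul, map_smul]
        show a ⊗ₜ[R] (m : M' × M₁).2 = a • toTensor α (m : M' × M₁).1
        rw [(mem_glued α).mp m.2, TensorProduct.smul_tmul', smul_eq_mul, mul_one]
      | add x y hx hy => simp only [map_add, hx, hy]
    have htors : ∃ n : ℕ, f ^ n • ξ = 0 := by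
      haveI := isLocalizedModule_gluedSnd hf α
      have h0 : (gluedSnd α).lTensor R' ξ = 0 := by rw [key, hξ, map_zero]
      -- compare with the localization of `R' ⊗ glued`
      let L := LocalizedModule (Submonoid.powers f) (glued α)
      let e : M₁ ≃ₗ[R] L := (IsLocalizedModule.iso (Submonoid.powers f) (gluedSnd α)).symm
      have he : ∀ m, e (gluedSnd α m) = LocalizedModule.mkLinearMap (Submonoid.powers f) (glued α) m := fun m => by
        exact IsLocalizedModule.iso_symm_apply' _ _ _ _ _ (one_smul (Submonoid.powers f) _)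
      let ψ : L →ₗ[R] LocalizedModule (Submonoid.powers f) (R' ⊗[R] glued α) :=
        EtGlue.tensorOfLoc R R' f (glued α)
      let Ψ : R' ⊗[R] L →ₗ[R] LocalizedModule (Submonoid.powers f) (R' ⊗[R] glued α) :=
        TensorProduct.lift
          { toFun := fun a =>
              (IsLocalizedModule.map (Submonoid.powers f)
                (LocalizedModule.mkLinearMap (Submonoid.powers f) (glued α))
                (LocalizedModule.mkLinearMap (Submonoid.powers f) (R' ⊗[R] glued α))
                (TensorProduct.mk R R' (glued α) a))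
            map_add' := fun a b => by rw [map_add, map_add]
            map_smul' := fun c a => by rw [map_smul, map_smul, RingHom.id_apply] }
      have hΨ : ∀ ζ, Ψ (e.toLinearMap.lTensor R' ((gluedSnd α).lTensor R' ζ)) =
          EtGlue.locOfTensor R R' f (glued α) ζ := by
        intro ζ
        induction ζ with
        | zero => simp
        | tmul a m =>
          rw [LinearMap.lTensor_tmul, LinearMap.lTensor_tmul, LinearEquiv.coe_coe, he]
          exact IsLocalizedModule.map_apply _ _ _ _ m
        | add x y hx hy => simp only [map_add, hx, hy]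
      refine (localized_eq_zero_iff ξ).mp ?_
      show EtGlue.locOfTensor R R' f (glued α) ξ = 0
      rw [← hΨ, h0, map_zero, map_zero]
    obtain ⟨m, hm, rfl⟩ := exists_torsion_preimage h ξ htors
    rw [LinearMap.liftBaseChange_tmul, one_smul] at hξ
    rw [eq_zero_of_torsion h hf α hm hξ, TensorProduct.tmul_zero]
  · intro x'
    suffices h1 : ∃ (y : M₁) (z : R' ⊗[R] glued α),
        toTensor α x' = (1 : R') ⊗ₜ[R] y + toTensor α (LinearMap.liftBaseChange R' (gluedFst α) z) by
      obtain ⟨y, z, hyz⟩ := h1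
      have hmem : (x' - LinearMap.liftBaseChange R' (gluedFst α) z, y) ∈ glued α := by
        rw [mem_glued, map_sub, hyz, add_sub_cancel_right]
      refine ⟨(1 : R') ⊗ₜ[R] ⟨_, hmem⟩ + z, ?_⟩
      rw [map_add, LinearMap.liftBaseChange_tmul, one_smul]
      exact sub_add_cancel _ _
    generalize toTensor α x' = ξ
    induction ξ with
    | zero => exact ⟨0, 0, by simp⟩
    | tmul a y =>
      obtain ⟨n, w, hw⟩ := exists_toTensor α ((1 : R') ⊗ₜ[R] y)
      obtain ⟨r, b, hb⟩ := exists_sub_eq h.1 n a
      refine ⟨r • y, b ⊗ₜ ⟨(w, f ^ n • y), (mem_glued α).mpr (by rw [hw, TensorProduct.tmul_smul])⟩, ?_⟩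
      rw [LinearMap.liftBaseChange_tmul, map_smul]
      show _ = _ + b • toTensor α w
      rw [hw, sub_eq_iff_eq_add.mp hb, TensorProduct.add_tmul, ← TensorProduct.smul_tmul,
        Algebra.smul_def, mul_one, add_comm, ← algebraMap_smul R' (f ^ n), smul_smul, TensorProduct.smul_tmul',
        smul_eq_mul, mul_one, mul_comm b]
    | add a b ha hb =>
      obtain ⟨y, z, rfl⟩ := ha; obtain ⟨y', z', rfl⟩ := hb
      exact ⟨y + y', z + z', by rw [TensorProduct.tmul_add, map_add, map_add]; abel⟩

include h hf in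
lemma isGlueable_glued : EtGlue.IsGlueable R R' f (glued α) := by
  rw [isGlueable_iff_injective h]
  intro m hm hm'
  refine eq_zero_of_torsion h hf α hm ?_
  have := congrArg (LinearMap.liftBaseChange R' (gluedFst α)) hm'
  rwa [LinearMap.liftBaseChange_tmul, one_smul, map_zero] at this

end Groth.Agent.EtGlueLib
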