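import Groth.Prelude.Def_EtGlue
import Mathlib.LinearAlgebra.DirectSum.Finsupp
import Mathlib.LinearAlgebra.TensorProduct.RightExactness
import Mathlib.RingTheory.Finiteness.Basic
import Mathlib.Tactic

/-! Formal glueing along `f`: torsion modules, glueability criteria. -/

universe u

open TensorProduct

namespace Groth.Agent.EtGlueLib

variable {R R' : Type u} [CommRing R] [CommRing R'] [Algebra R R'] {f : R}
  (hq : EtGlue.QuotPowBijective R R' f)

include hq

lemma exists_sub_eq (n : ℕ) (a : R') :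
    ∃ (r : R) (b : R'), a - algebraMap R R' r = algebraMap R R' (f ^ n) * b := by
  rcases Nat.eq_zero_or_pos n with rfl | hn
  · exact ⟨0, a, by simp⟩
  obtain ⟨r, hr⟩ := (hq n hn).2 (Ideal.Quotient.mk _ a)
  obtain ⟨r, rfl⟩ := Ideal.Quotient.mk_surjective r
  rw [Ideal.quotientMap_mk, eq_comm, Ideal.Quotient.eq, Ideal.map_span, Set.image_singleton,
    Ideal.mem_span_singleton] at hr
  obtain ⟨b, hb⟩ := hr
  exact ⟨r, b, hb⟩

lemma exists_eq_pow_mul (n : ℕ) {r : R} {b : R'} (h : algebraMap R R' r = algebraMap R R' (f ^ n) * b) :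
    ∃ s : R, r = f ^ n * s := by
  rcases Nat.eq_zero_or_pos n with rfl | hn
  · exact ⟨r, by simp⟩
  have h1 : Ideal.Quotient.mk (Ideal.span {f ^ n}) r = 0 := by
    refine (hq n hn).1 ?_
    rw [map_zero, Ideal.quotientMap_mk, Ideal.Quotient.eq_zero_iff_mem, Ideal.map_span, Set.image_singleton,
      Ideal.mem_span_singleton]
    exact ⟨b, h⟩
  obtain ⟨s, hs⟩ := Ideal.mem_span_singleton.mp (Ideal.Quotient.eq_zero_iff_mem.mp h1)
  exact ⟨s, hs⟩

section Module

variable {M : Type u} [AddCommGroup M] [Module R M]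

/-- Every element of `R' ⊗ M` is congruent to some `1 ⊗ m` modulo `f ^ n`. -/
lemma exists_tmul_add (n : ℕ) (x : R' ⊗[R] M) :
    ∃ (m : M) (y : R' ⊗[R] M), x = (1 : R') ⊗ₜ[R] m + f ^ n • y := by
  induction x with
  | zero => exact ⟨0, 0, by simp⟩
  | tmul a m =>
    obtain ⟨r, b, h⟩ := exists_sub_eq hq n a
    refine ⟨r • m, b ⊗ₜ m, ?_⟩
    rw [sub_eq_iff_eq_add.mp h, TensorProduct.add_tmul, add_comm, ← TensorProduct.smul_tmul,
      Algebra.smul_def, mul_one, TensorProduct.smul_tmul', Algebra.smul_def (f ^ n) b]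
  | add x y hx hy =>
    obtain ⟨m, x', rfl⟩ := hx; obtain ⟨n', y', rfl⟩ := hy
    exact ⟨m + n', x' + y', by rw [TensorProduct.tmul_add, smul_add]; abel⟩

/-- A module killed by `f ^ n` is its own base change. -/
lemma mk_bijective_of_pow_smul_eq_zero {T : Type u} [AddCommGroup T] [Module R T] (n : ℕ)
    (hT : ∀ t : T, f ^ n • t = 0) : Function.Bijective (TensorProduct.mk R R' T 1) := by
  refine ⟨?_, fun x => ?_⟩
  · choose r b h using exists_sub_eq hq n
    have wd : ∀ (a : R') (s : R) (c : R'), a - algebraMap R R' s = algebraMap R R' (f ^ n) * c →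
        ∀ t : T, s • t = r a • t := by
      intro a s c hs t
      obtain ⟨d, hd⟩ := exists_eq_pow_mul hq n (r := s - r a) (b := b a - c) (by
        rw [map_sub, mul_sub, ← h a, ← hs]; ring)
      rw [← sub_eq_zero, ← sub_smul, hd, mul_comm, mul_smul, hT, smul_zero]
    let ψ : R' →ₗ[R] T →ₗ[R] T :=
      { toFun := fun a => LinearMap.lsmul R T (r a)
        map_add' := fun a a' => LinearMap.ext fun t => by
          show r (a + a') • t = r a • t + r a' • t
          rw [← add_smul]
          exact (wd _ _ (b a + b a') (by rw [map_add, mul_add, ← h a, ← h a']; abel) t).symm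
        map_smul' := fun c a => LinearMap.ext fun t => by
          show r (c • a) • t = c • (r a • t)
          rw [← mul_smul]
          exact (wd _ _ (algebraMap R R' c * b a) (by
            rw [Algebra.smul_def, map_mul, mul_left_comm, ← h a, mul_sub]) t).symm }
    have h1 : ∀ t : T, TensorProduct.lift ψ ((1 : R') ⊗ₜ t) = t := fun t => by
      show r 1 • t = t
      rw [← wd 1 1 0 (by simp) t, one_smul]
    intro s t hst
    have := congrArg (TensorProduct.lift ψ) hst
    rwa [TensorProduct.mk_apply, TensorProduct.mk_apply, h1, h1] at this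
  · obtain ⟨m, y, rfl⟩ := exists_tmul_add hq n x
    refine ⟨m, ?_⟩
    have : f ^ n • y = 0 := by
      induction y with
      | zero => simp
      | tmul a t => rw [TensorProduct.smul_tmul', TensorProduct.smul_tmul, hT, TensorProduct.tmul_zero]
      | add x y hx hy => rw [smul_add, hx, hy, add_zero]
    rw [TensorProduct.mk_apply, this, add_zero]

/-- `M / f ^ n M → (R' ⊗ M) / f ^ n` is injective. -/
lemma exists_smul_eq_of_one_tmul (n : ℕ) {m : M} {y : R' ⊗[R] M} (h : (1 : R') ⊗ₜ[R] m = f ^ n • y) :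
    ∃ μ : M, m = f ^ n • μ := by
  let S := LinearMap.range (LinearMap.lsmul R M (f ^ n))
  let q : M →ₗ[R] M ⧸ S := S.mkQ
  have hkill : ∀ t : M ⧸ S, f ^ n • t = 0 := by
    intro t
    obtain ⟨x, rfl⟩ := Submodule.Quotient.mk_surjective _ t
    rw [← Submodule.Quotient.mk_smul, Submodule.Quotient.mk_eq_zero]
    exact ⟨x, rfl⟩
  have hy : ∀ z : R' ⊗[R] (M ⧸ S), f ^ n • z = 0 := by
    intro z
    obtain ⟨t, rfl⟩ := (mk_bijective_of_pow_smul_eq_zero hq n hkill).2 z
    rw [TensorProduct.mk_apply, ← TensorProduct.tmul_smul, hkill, TensorProduct.tmul_zero]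
  have := congrArg (q.lTensor R') h
  rw [LinearMap.lTensor_tmul, map_smul, hy] at this
  have h0 : q m = 0 := (mk_bijective_of_pow_smul_eq_zero hq n hkill).1 (by
    rw [TensorProduct.mk_apply, this, map_zero])
  obtain ⟨μ, hμ⟩ := (Submodule.Quotient.mk_eq_zero _).mp h0
  exact ⟨μ, hμ.symm⟩

/-- A power torsion module is its own base change. -/
lemma mk_bijective_of_torsion {T : Type u} [AddCommGroup T] [Module R T]
    (hT : ∀ t : T, ∃ n : ℕ, f ^ n • t = 0) : Function.Bijective (TensorProduct.mk R R' T 1) := by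
  choose N hN using hT
  have hle : ∀ (t : T) (n : ℕ), N t ≤ n → f ^ n • t = 0 := by
    intro t n hn
    rw [← Nat.sub_add_cancel hn, pow_add, mul_smul, hN, smul_zero]
  choose r b h using fun (n : ℕ) (a : R') => exists_sub_eq hq n a
  have wd : ∀ (n : ℕ) (a : R') (s : R) (c : R'), a - algebraMap R R' s = algebraMap R R' (f ^ n) * c →
      ∀ (t : T) (k : ℕ), N t ≤ n → N t ≤ k → s • t = r k a • t := by
    intro n a s c hs t k hn hk
    obtain ⟨d, hd⟩ := exists_eq_pow_mul hq (min n k) (r := s - r k a)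
      (b := algebraMap R R' (f ^ (k - min n k)) * b k a - algebraMap R R' (f ^ (n - min n k)) * c) (by
        rw [mul_sub, ← mul_assoc, ← mul_assoc, ← map_mul, ← map_mul, ← pow_add, ← pow_add,
          Nat.add_sub_cancel' (min_le_left _ _), Nat.add_sub_cancel' (min_le_right _ _), ← hs, ← h k a, map_sub]
        ring)
    rw [← sub_eq_zero, ← sub_smul, hd, mul_comm, mul_smul, hle t _ (le_min hn hk), smul_zero]
  constructor
  · let ψ : R' →ₗ[R] T →ₗ[R] T :=
      { toFun := fun a =>
          { toFun := fun t => r (N t) a • t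
            map_add' := fun t t' => by
              let n := max (N (t + t')) (max (N t) (N t'))
              have e : ∀ x : T, N x ≤ n → r (N x) a • x = r n a • x :=
                fun x hx => (wd n a _ _ (h n a) x (N x) hx le_rfl).symm
              rw [e _ (le_max_left _ _), e t (le_trans (le_max_left _ _) (le_max_right _ _)),
                e t' (le_trans (le_max_right _ _) (le_max_right _ _)), smul_add]
            map_smul' := fun c t => by
              let n := max (N (c • t)) (N t)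
              have e : ∀ x : T, N x ≤ n → r (N x) a • x = r n a • x :=
                fun x hx => (wd n a _ _ (h n a) x (N x) hx le_rfl).symm
              rw [RingHom.id_apply, e _ (le_max_left _ _), e t (le_max_right _ _), smul_comm] }
        map_add' := fun a a' => LinearMap.ext fun t => by
          show r (N t) (a + a') • t = r (N t) a • t + r (N t) a' • t
          rw [← add_smul]
          exact (wd (N t) _ _ (b (N t) a + b (N t) a')
            (by rw [map_add, mul_add, ← h _ a, ← h _ a']; abel) t (N t) le_rfl le_rfl).symm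
        map_smul' := fun c a => LinearMap.ext fun t => by
          show r (N t) (c • a) • t = c • (r (N t) a • t)
          rw [← mul_smul]
          exact (wd (N t) _ _ (algebraMap R R' c * b (N t) a) (by
            rw [Algebra.smul_def, map_mul, mul_left_comm, ← h _ a, mul_sub]) t (N t) le_rfl le_rfl).symm }
    have h1 : ∀ t : T, TensorProduct.lift ψ ((1 : R') ⊗ₜ t) = t := fun t => by
      show r (N t) 1 • t = t
      rw [← wd (N t) 1 1 0 (by simp) t (N t) le_rfl le_rfl, one_smul]
    intro s t hst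
    have := congrArg (TensorProduct.lift ψ) hst
    rwa [TensorProduct.mk_apply, TensorProduct.mk_apply, h1, h1] at this
  · intro x
    induction x with
    | zero => exact ⟨0, by simp⟩
    | tmul a t =>
      refine ⟨r (N t) a • t, ?_⟩
      rw [TensorProduct.mk_apply, ← TensorProduct.smul_tmul, Algebra.smul_def, mul_one]
      conv_rhs => rw [sub_eq_iff_eq_add.mp (h (N t) a)]
      rw [TensorProduct.add_tmul, ← Algebra.smul_def, TensorProduct.smul_tmul, hN, TensorProduct.tmul_zero, zero_add]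
    | add x y hx hy =>
      obtain ⟨s, rfl⟩ := hx; obtain ⟨t, rfl⟩ := hy
      exact ⟨s + t, map_add _ _ _⟩

end Module

omit hq in
lemma localized_eq_zero_iff {X : Type u} [AddCommGroup X] [Module R X] (x : X) :
    LocalizedModule.mkLinearMap (Submonoid.powers f) X x = 0 ↔ ∃ k : ℕ, f ^ k • x = 0 := by
  rw [IsLocalizedModule.eq_zero_iff (Submonoid.powers f)]
  constructor
  · rintro ⟨⟨_, k, rfl⟩, hk⟩; exact ⟨k, hk⟩
  · rintro ⟨k, hk⟩; exact ⟨⟨_, k, rfl⟩, hk⟩

omit hq in
lemma exists_surj {X : Type u} [AddCommGroup X] [Module R X]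
    (y : LocalizedModule (Submonoid.powers f) X) :
    ∃ (k : ℕ) (x : X), f ^ k • y = LocalizedModule.mkLinearMap (Submonoid.powers f) X x := by
  obtain ⟨⟨x, ⟨_, k, rfl⟩⟩, hx⟩ := IsLocalizedModule.surj (Submonoid.powers f)
    (LocalizedModule.mkLinearMap (Submonoid.powers f) X) y
  exact ⟨k, x, hx⟩

omit hq in
lemma pow_smul_cancel {X : Type u} [AddCommGroup X] [Module R X] (k : ℕ)
    {y y' : LocalizedModule (Submonoid.powers f) X} (h : f ^ k • y = f ^ k • y') : y = y' :=
  ((Module.End.isUnit_iff _).mp (IsLocalizedModule.map_units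
    (LocalizedModule.mkLinearMap (Submonoid.powers f) X) (⟨f ^ k, k, rfl⟩ : Submonoid.powers f))).1 h

omit hq in
lemma tensorOfLoc_mkLinearMap (M : Type u) [AddCommGroup M] [Module R M] (m : M) :
    EtGlue.tensorOfLoc R R' f M (LocalizedModule.mkLinearMap (Submonoid.powers f) M m) =
      EtGlue.locOfTensor R R' f M ((1 : R') ⊗ₜ[R] m) :=
  IsLocalizedModule.map_apply _ _ _ _ m

/-- `(R' ⊗ M) × M_f → (R' ⊗ M)_f` is surjective. -/
lemma locOfTensor_sub_surjective (M : Type u) [AddCommGroup M] [Module R M]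
    (z : LocalizedModule (Submonoid.powers f) (R' ⊗[R] M)) :
    ∃ (x : R' ⊗[R] M) (y : LocalizedModule (Submonoid.powers f) M),
      EtGlue.locOfTensor R R' f M x - EtGlue.tensorOfLoc R R' f M y = z := by
  obtain ⟨k, w, hw⟩ := exists_surj (f := f) z
  obtain ⟨m, w', rfl⟩ := exists_tmul_add hq k w
  refine ⟨w', -LocalizedModule.mk m (⟨f ^ k, k, rfl⟩ : Submonoid.powers f), pow_smul_cancel k ?_⟩
  rw [map_neg, sub_neg_eq_add, smul_add, hw, ← map_smul (EtGlue.tensorOfLoc R R' f M),
    show f ^ k • LocalizedModule.mk m (⟨f ^ k, k, rfl⟩ : Submonoid.powers f) =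
      LocalizedModule.mkLinearMap (Submonoid.powers f) M m from ?_, tensorOfLoc_mkLinearMap, map_add, map_smul, add_comm]
  rw [LocalizedModule.smul'_mk, LocalizedModule.mkLinearMap_apply, LocalizedModule.mk_eq]
  exact ⟨1, by simp [Submonoid.smul_def]⟩

/-- Glueability in terms of power torsion. -/
lemma isGlueable_iff (M : Type u) [AddCommGroup M] [Module R M] :
    EtGlue.IsGlueable R R' f M ↔
      (∀ m : M, (∃ n : ℕ, f ^ n • m = 0) → (1 : R') ⊗ₜ[R] m = 0 → m = 0) ∧
      (∀ x : R' ⊗[R] M, (∃ n : ℕ, f ^ n • x = 0) → ∃ m : M, (∃ n : ℕ, f ^ n • m = 0) ∧ (1 : R') ⊗ₜ[R] m = x) := by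
  constructor
  · rintro ⟨h1, h2⟩
    refine ⟨fun m hm hm' => h1 (Prod.ext (by simpa using hm') (by
      simp only [(localized_eq_zero_iff m).mpr hm, map_zero])), fun x hx => ?_⟩
    obtain ⟨m, hm, hm'⟩ := h2 x 0 (by rw [map_zero]; exact (localized_eq_zero_iff x).mpr hx)
    exact ⟨m, (localized_eq_zero_iff m).mp hm', hm⟩
  · rintro ⟨h1, h2⟩
    refine ⟨fun m m' h => sub_eq_zero.mp (h1 _ ((localized_eq_zero_iff _).mp ?_) ?_), fun x y h => ?_⟩
    all_goals try simp only [Prod.mk.injEq] at h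
    · rw [map_sub, h.2, sub_self]
    · rw [TensorProduct.tmul_sub, h.1, sub_self]
    obtain ⟨k, m, hm⟩ := exists_surj (f := f) y
    obtain ⟨j, hj⟩ : ∃ j : ℕ, f ^ j • (f ^ k • x - (1 : R') ⊗ₜ[R] m) = 0 := by
      refine (localized_eq_zero_iff (f := f) (X := R' ⊗[R] M) _).mp ?_
      show EtGlue.locOfTensor R R' f M _ = 0
      rw [map_sub, map_smul, h, ← map_smul (EtGlue.tensorOfLoc R R' f M), hm, tensorOfLoc_mkLinearMap, sub_self]
    rw [smul_sub, sub_eq_zero, ← mul_smul, ← pow_add, ← TensorProduct.tmul_smul] at hj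
    obtain ⟨μ, hμ⟩ := exists_smul_eq_of_one_tmul hq (j + k) hj.symm
    obtain ⟨τ, hτ, hτ'⟩ := h2 (x - (1 : R') ⊗ₜ[R] μ) ⟨j + k, by
      rw [smul_sub, hj, hμ, TensorProduct.tmul_smul, sub_self]⟩
    refine ⟨μ + τ, by rw [TensorProduct.tmul_add, hτ', add_sub_cancel], pow_smul_cancel (j + k) ?_⟩
    rw [map_add, (localized_eq_zero_iff τ).mpr hτ, add_zero, ← map_smul, ← hμ, map_smul, ← hm, ← mul_smul, ← pow_add]

lemma isGlueingPair_iff :
    EtGlue.IsGlueingPair R R' f ↔
      ((∀ x : R, (∃ n : ℕ, f ^ n * x = 0) → algebraMap R R' x = 0 → x = 0) ∧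
       (∀ x' : R', (∃ n : ℕ, algebraMap R R' f ^ n * x' = 0) →
          ∃ x : R, (∃ n : ℕ, f ^ n * x = 0) ∧ algebraMap R R' x = x')) := by
  have hz : ∀ x : R, algebraMap R (Localization.Away f) x = 0 ↔ ∃ n : ℕ, f ^ n * x = 0 := fun x => by
    rw [IsLocalization.map_eq_zero_iff (Submonoid.powers f)]
    exact ⟨fun ⟨⟨_, k, rfl⟩, h⟩ => ⟨k, h⟩, fun ⟨k, h⟩ => ⟨⟨_, k, rfl⟩, h⟩⟩
  have hz' : ∀ x : R', algebraMap R' (Localization.Away (algebraMap R R' f)) x = 0 ↔
      ∃ n : ℕ, algebraMap R R' f ^ n * x = 0 := fun x => by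
    rw [IsLocalization.map_eq_zero_iff (Submonoid.powers (algebraMap R R' f))]
    exact ⟨fun ⟨⟨_, k, rfl⟩, h⟩ => ⟨k, h⟩, fun ⟨k, h⟩ => ⟨⟨_, k, rfl⟩, h⟩⟩
  have hmap : ∀ r, Localization.awayMap (algebraMap R R') f (algebraMap R (Localization.Away f) r) =
      algebraMap R' (Localization.Away (algebraMap R R' f)) (algebraMap R R' r) := fun r => by
    simp [Localization.awayMap, IsLocalization.Away.map, IsLocalization.map_eq]
  constructor
  · rintro ⟨-, h1, h2, -⟩
    refine ⟨fun x hx hx' => h1 (Prod.ext (by simpa using hx') (by simp only [(hz x).mpr hx, map_zero])), fun x' hx' => ?_⟩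
    obtain ⟨r, hr, hr'⟩ := h2 x' 0 (by rw [map_zero]; exact (hz' x').mpr hx')
    exact ⟨r, (hz r).mp hr', hr⟩
  · rintro ⟨h1, h2⟩
    refine ⟨hq, fun a b h => sub_eq_zero.mp (h1 _ ((hz _).mp ?_) ?_), fun x y h => ?_, fun z => ?_⟩
    all_goals try simp only [Prod.mk.injEq] at h
    · rw [map_sub, h.2, sub_self]
    · rw [map_sub, h.1, sub_self]
    · obtain ⟨k, m, hm⟩ := IsLocalization.Away.surj f y
      have h' := congrArg (Localization.awayMap (algebraMap R R') f) hm
      rw [map_mul, map_pow, hmap, hmap, ← h, ← map_pow, ← map_mul] at h'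
      obtain ⟨j, hj⟩ := IsLocalization.Away.exists_of_eq (algebraMap R R' f) h'
      obtain ⟨μ, hμ⟩ := exists_eq_pow_mul hq (j + k) (r := f ^ j * m) (b := x) (by
        rw [map_mul, map_pow, ← hj, map_pow, pow_add]; ring)
      obtain ⟨τ, hτ, hτ'⟩ := h2 (x - algebraMap R R' μ) ⟨j + k, by
        have := congrArg (algebraMap R R') hμ
        simp only [map_mul, map_pow] at this
        rw [pow_add] at this ⊢
        linear_combination hj + this⟩
      refine ⟨μ + τ, by rw [map_add, hτ', add_sub_cancel], ?_⟩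
      have hu : IsUnit ((algebraMap R (Localization.Away f) f) ^ (j + k)) :=
        (IsLocalization.Away.algebraMap_isUnit f).pow _
      refine hu.mul_left_cancel ?_
      rw [map_add, (hz τ).mpr hτ, add_zero, ← map_pow, ← map_mul, ← hμ, map_mul, ← hm, map_pow, map_pow, pow_add]
      ring
    · obtain ⟨k, w, hw⟩ := IsLocalization.Away.surj (algebraMap R R' f) z
      obtain ⟨r, b, hb⟩ := exists_sub_eq hq k w
      obtain ⟨u, hu⟩ := ((IsLocalization.Away.algebraMap_isUnit (S := Localization.Away f) f).pow k).exists_right_inv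
      refine ⟨b, -(algebraMap R _ r * u), ((IsLocalization.Away.algebraMap_isUnit
        (S := Localization.Away (algebraMap R R' f)) (algebraMap R R' f)).pow k).mul_left_cancel ?_⟩
      have hu' := congrArg (Localization.awayMap (algebraMap R R') f) hu
      rw [map_mul, map_pow, hmap, map_one] at hu'
      rw [map_neg, sub_neg_eq_add, map_mul, hmap, mul_comm _ z, hw, sub_eq_iff_eq_add.mp hb, map_add, map_mul, map_pow, map_pow]
      linear_combination algebraMap R' (Localization.Away (algebraMap R R' f)) (algebraMap R R' r) * hu'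

end Groth.Agent.EtGlueLib

namespace Groth.Agent.EtGlueLib

variable {R R' : Type u} [CommRing R] [CommRing R'] [Algebra R R'] {f : R}
  (h : EtGlue.IsGlueingPair R R' f)

include h

/-- For a glueing pair, power torsion of `R' ⊗ M` comes from `M`. -/
lemma exists_torsion_preimage {M : Type u} [AddCommGroup M] [Module R M] (x : R' ⊗[R] M)
    (hx : ∃ n : ℕ, f ^ n • x = 0) :
    ∃ m : M, (∃ n : ℕ, f ^ n • m = 0) ∧ (1 : R') ⊗ₜ[R] m = x := by
  classical
  obtain ⟨n, hn⟩ := hx
  let p : (M →₀ R) →ₗ[R] M := Finsupp.linearCombination R id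
  have hp : Function.Surjective p := Finsupp.linearCombination_id_surjective R M
  obtain ⟨ξ, rfl⟩ := LinearMap.lTensor_surjective R' hp x
  rw [← map_smul] at hn
  obtain ⟨κ, hκ⟩ := (lTensor_exact (R := R) (M := LinearMap.ker p) (N := M →₀ R) (P := M) R' (LinearMap.exact_subtype_ker_map p) hp _).mp hn
  obtain ⟨k, κ', hk⟩ := exists_tmul_add (M := LinearMap.ker p) h.1 n κ
  set ι := (LinearMap.ker p).subtype
  have hκ' : (1 : R') ⊗ₜ[R] (k : M →₀ R) = f ^ n • (ξ - ι.lTensor R' κ') := by
    rw [smul_sub, ← hκ, hk, map_add, map_smul, add_sub_cancel_right, LinearMap.lTensor_tmul]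
    rfl
  obtain ⟨φ₀, hφ₀⟩ := exists_smul_eq_of_one_tmul h.1 n hκ'
  have htors : f ^ n • (ξ - ι.lTensor R' κ' - (1 : R') ⊗ₜ[R] φ₀) = 0 := by
    rw [smul_sub, ← hκ', hφ₀, TensorProduct.tmul_smul, sub_self]
  set η := ξ - ι.lTensor R' κ' - (1 : R') ⊗ₜ[R] φ₀
  let e := TensorProduct.finsuppScalarRight R R R' M
  have hc : ∀ i, ∃ r : R, (∃ j : ℕ, f ^ j * r = 0) ∧ algebraMap R R' r = e η i := by
    intro i
    refine ((isGlueingPair_iff h.1).mp h).2 _ ⟨n, ?_⟩
    have := DFunLike.congr_fun (congrArg e htors) i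
    rwa [map_smul, map_zero, Finsupp.smul_apply, Finsupp.zero_apply, Algebra.smul_def, map_pow] at this
  choose c hc hc' using hc
  choose j hj using hc
  let φ₁ : M →₀ R := ∑ i ∈ (e η).support, Finsupp.single i (c i)
  let J := (e η).support.sup j
  have hφ₁ : f ^ J • φ₁ = 0 := by
    rw [Finset.smul_sum]
    refine Finset.sum_eq_zero fun i hi => ?_
    rw [Finsupp.smul_single, smul_eq_mul,
      show J = (J - j i) + j i from (Nat.sub_add_cancel (Finset.le_sup (f := j) hi)).symm, pow_add, mul_assoc, hj,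
      mul_zero, Finsupp.single_zero]
  have hη : (1 : R') ⊗ₜ[R] φ₁ = η := by
    refine e.injective (Finsupp.ext fun i => ?_)
    rw [TensorProduct.finsuppScalarRight_apply_tmul_apply, Algebra.smul_def, mul_one, Finsupp.finsetSum_apply,
      map_sum, Finset.sum_eq_single i (fun b _ hb => by simp [hb]) (fun hi => ?_)]
    · simp [hc']
    · simp [hc', Finsupp.notMem_support_iff.mp hi]
  refine ⟨p (φ₀ + φ₁), ⟨n + J, ?_⟩, ?_⟩
  · rw [← map_smul, smul_add, map_add, pow_add, mul_smul (f ^ n) _ φ₁, hφ₁, smul_zero, map_zero, add_zero,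
      mul_comm, mul_smul, ← hφ₀, map_smul, LinearMap.mem_ker.mp k.2, smul_zero]
  · rw [← LinearMap.lTensor_tmul, TensorProduct.tmul_add, hη, add_sub_cancel, map_sub,
      ← LinearMap.lTensor_comp_apply, LinearMap.comp_ker_subtype, LinearMap.lTensor_zero,
      LinearMap.zero_apply, sub_zero]

lemma isGlueable_iff_injective (M : Type u) [AddCommGroup M] [Module R M] :
    EtGlue.IsGlueable R R' f M ↔ ∀ m : M, (∃ n : ℕ, f ^ n • m = 0) → (1 : R') ⊗ₜ[R] m = 0 → m = 0 :=
  (isGlueable_iff h.1 M).trans ⟨And.left, fun h1 => ⟨h1, fun x hx => exists_torsion_preimage h x hx⟩⟩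

end Groth.Agent.EtGlueLib
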