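import Groth.Agent.EtGlueLib.Algebra
import Mathlib.RingTheory.RingHom.FiniteType
import Mathlib.RingTheory.RingHom.Finite
import Mathlib.RingTheory.RingHom.Flat

/-! Morphisms of algebras over a glueing pair. -/

universe u

open TensorProduct

namespace Groth.Agent.EtGlueLib

variable {R R' : Type u} [CommRing R] [CommRing R'] [Algebra R R'] {f : R}
  {A B : Type u} [CommRing A] [Algebra R A] [CommRing B] [Algebra R B] (φ : A →ₐ[R] B)

/-- All the algebra structures attached to `φ : A →ₐ[R] B` and the pair `(R', f)`. -/
lemma relative_setup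
    (P : ∀ (A' Ag B B' Bg : Type u) [CommRing A'] [CommRing Ag] [CommRing B] [CommRing B'] [CommRing Bg]
      [Algebra A A'] [Algebra A Ag] [Algebra A B] [Algebra A' B'] [Algebra Ag Bg], Prop)
    (H : ∀ (A' Ag B' Bg : Type u) [CommRing A'] [CommRing Ag] [CommRing B'] [CommRing Bg]
      [Algebra A A'] [Algebra A Ag] [Algebra R A'] [Algebra R' A'] [IsScalarTower R R' A'] [IsScalarTower R A A']
      [Algebra.IsPushout R R' A A'] [IsLocalization.Away (algebraMap R A f) Ag]
      [Algebra A B] [Algebra A B'] [Algebra A' B'] [Algebra B B'] [IsScalarTower A A' B'] [IsScalarTower A B B']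
      [Algebra.IsPushout A A' B B']
      [Algebra A Bg] [Algebra Ag Bg] [Algebra B Bg] [IsScalarTower A Ag Bg] [IsScalarTower A B Bg]
      [Algebra.IsPushout A Ag B Bg], (algebraMap A B) = φ.toRingHom → P A' Ag B B' Bg) :
    letI : Algebra A B := φ.toRingHom.toAlgebra
    letI : Algebra A (R' ⊗[R] A) := Algebra.TensorProduct.includeRight.toRingHom.toAlgebra
    letI : Algebra (R' ⊗[R] A) (R' ⊗[R] B) := (Algebra.TensorProduct.map (AlgHom.id R R') φ).toRingHom.toAlgebra
    letI : Algebra (Localization.Away (algebraMap R A f)) (Localization.Away (φ.toRingHom (algebraMap R A f))) :=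
      (Localization.awayMap φ.toRingHom (algebraMap R A f)).toAlgebra
    P (R' ⊗[R] A) (Localization.Away (algebraMap R A f)) B (R' ⊗[R] B)
      (Localization.Away (φ.toRingHom (algebraMap R A f))) := by
  letI : Algebra A B := φ.toRingHom.toAlgebra
  let A' := R' ⊗[R] A
  let B' := R' ⊗[R] B
  let Ag := Localization.Away (algebraMap R A f)
  let Bg := Localization.Away (φ.toRingHom (algebraMap R A f))
  letI : Algebra A A' := Algebra.TensorProduct.includeRight.toRingHom.toAlgebra
  letI : Algebra B B' := Algebra.TensorProduct.includeRight.toRingHom.toAlgebra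
  letI : Algebra A' B' := (Algebra.TensorProduct.map (AlgHom.id R R') φ).toRingHom.toAlgebra
  letI : Algebra A B' := ((algebraMap B B').comp (algebraMap A B)).toAlgebra
  haveI : IsScalarTower R A B := IsScalarTower.of_algebraMap_eq fun r => (φ.commutes r).symm
  haveI : IsScalarTower R A A' := IsScalarTower.of_algebraMap_eq fun r =>
    ((Algebra.TensorProduct.includeRight : A →ₐ[R] A').commutes r).symm
  haveI : IsScalarTower R B B' := IsScalarTower.of_algebraMap_eq fun r =>
    ((Algebra.TensorProduct.includeRight : B →ₐ[R] B').commutes r).symm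
  haveI : IsScalarTower A B B' := IsScalarTower.of_algebraMap_eq fun a => rfl
  haveI : IsScalarTower A A' B' := IsScalarTower.of_algebraMap_eq fun a => by
    show (1 : R') ⊗ₜ[R] φ a = Algebra.TensorProduct.map (AlgHom.id R R') φ ((1 : R') ⊗ₜ[R] a)
    simp
  haveI : IsScalarTower R' A' B' := IsScalarTower.of_algebraMap_eq fun r => by
    show r ⊗ₜ[R] (1 : B) = Algebra.TensorProduct.map (AlgHom.id R R') φ (r ⊗ₜ[R] (1 : A))
    simp
  haveI : IsScalarTower R A' B' := IsScalarTower.of_algebraMap_eq fun r => by
    rw [IsScalarTower.algebraMap_apply R R' A', IsScalarTower.algebraMap_apply R R' B',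
      IsScalarTower.algebraMap_apply R' A' B']
  haveI hpA : Algebra.IsPushout R R' A A' := ⟨TensorProduct.isBaseChange R A R'⟩
  haveI hpB : Algebra.IsPushout R R' B B' := ⟨TensorProduct.isBaseChange R B R'⟩
  haveI : Algebra.IsPushout R A R' A' := hpA.symm
  haveI : Algebra.IsPushout R B R' B' := hpB.symm
  haveI : Algebra.IsPushout A A' B B' :=
    ((Algebra.IsPushout.comp_iff (R := R) (S := A) (R' := R') (S' := A') (T := B) (T' := B')).mp inferInstance).symm
  letI : Algebra Ag Bg := (Localization.awayMap φ.toRingHom (algebraMap R A f)).toAlgebra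
  haveI : IsScalarTower A B Bg := inferInstance
  haveI : IsScalarTower A Ag Bg := IsScalarTower.of_algebraMap_eq fun a => by
    rw [IsScalarTower.algebraMap_apply A B Bg]
    simp [RingHom.algebraMap_toAlgebra, Localization.awayMap, IsLocalization.Away.map, IsLocalization.map_eq, Ag, Bg]
  haveI : IsLocalization (Algebra.algebraMapSubmonoid B (Submonoid.powers (algebraMap R A f))) Bg := by
    rw [Algebra.algebraMapSubmonoid_powers]; infer_instance
  haveI : Algebra.IsPushout A Ag B Bg :=
    (Algebra.isPushout_of_isLocalization (Submonoid.powers (algebraMap R A f)) Ag B Bg).symm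
  exact H A' Ag B' Bg rfl

end Groth.Agent.EtGlueLib
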