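import Groth.Agent.EtGlueLib.Flat
import Mathlib.RingTheory.Kaehler.TensorProduct
import Mathlib.RingTheory.RingHom.Etale
import Mathlib.RingTheory.RingHom.FinitePresentation
import Mathlib.RingTheory.Etale.Basic

/-! Properties of algebras over the base of a glueing pair. -/

universe u

open TensorProduct

namespace Groth.Agent.EtGlueLib

section Base

variable {R R' : Type u} [CommRing R] [CommRing R'] [Algebra R R'] {f : R}

lemma quotPowBijective_baseChange (hq : EtGlue.QuotPowBijective R R' f) (A A' : Type u) [CommRing A]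
    [CommRing A'] [Algebra R A] [Algebra R A'] [Algebra R' A'] [IsScalarTower R R' A'] [Algebra A A']
    [IsScalarTower R A A'] [Algebra.IsPushout R R' A A'] :
    EtGlue.QuotPowBijective A A' (algebraMap R A f) := by
  let e : R' ⊗[R] A ≃ₗ[R'] A' := (Algebra.IsPushout.out (R := R) (S := R') (R' := A) (S' := A')).equiv
  have he : ∀ a : A, e ((1 : R') ⊗ₜ[R] a) = algebraMap A A' a := fun a => by
    simp [e, IsBaseChange.equiv_tmul]
  have hsmul : ∀ (n : ℕ) (y : R' ⊗[R] A), e (f ^ n • y) = algebraMap A A' (algebraMap R A f ^ n) * e y :=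
    fun n y => by
      rw [← algebraMap_smul R' (f ^ n) y, map_smul, algebraMap_smul, Algebra.smul_def, ← map_pow,
        ← IsScalarTower.algebraMap_apply]
  intro n hn
  constructor
  · rw [injective_iff_map_eq_zero]
    intro q hq'
    obtain ⟨a, rfl⟩ := Ideal.Quotient.mk_surjective q
    rw [Ideal.quotientMap_mk, Ideal.Quotient.eq_zero_iff_mem, Ideal.map_span, Set.image_singleton,
      Ideal.mem_span_singleton] at hq'
    obtain ⟨c, hc⟩ := hq'
    obtain ⟨y, rfl⟩ := e.surjective c
    rw [← hsmul, ← he] at hc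
    obtain ⟨μ, hμ⟩ := exists_smul_eq_of_one_tmul hq n (e.injective hc)
    rw [Ideal.Quotient.eq_zero_iff_mem, Ideal.mem_span_singleton, hμ, Algebra.smul_def, map_pow]
    exact Dvd.intro μ rfl
  · intro q
    obtain ⟨x, rfl⟩ := Ideal.Quotient.mk_surjective q
    obtain ⟨z, rfl⟩ := e.surjective x
    obtain ⟨a, y, rfl⟩ := exists_tmul_add hq n z
    refine ⟨Ideal.Quotient.mk _ a, ?_⟩
    rw [Ideal.quotientMap_mk, Ideal.Quotient.eq, Ideal.map_span, Set.image_singleton, Ideal.mem_span_singleton,
      map_add, he, hsmul]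
    exact ⟨-e y, by rw [← map_pow]; ring⟩

lemma isGlueingPair_of_isGlueable (h : EtGlue.IsGlueingPair R R' f) (A A' : Type u) [CommRing A]
    [CommRing A'] [Algebra R A] [Algebra R A'] [Algebra R' A'] [IsScalarTower R R' A'] [Algebra A A']
    [IsScalarTower R A A'] [Algebra.IsPushout R R' A A'] (hA : EtGlue.IsGlueable R R' f A) :
    EtGlue.IsGlueingPair A A' (algebraMap R A f) := by
  let e : R' ⊗[R] A ≃ₗ[R'] A' := (Algebra.IsPushout.out (R := R) (S := R') (R' := A) (S' := A')).equiv
  have he : ∀ a : A, e ((1 : R') ⊗ₜ[R] a) = algebraMap A A' a := fun a => by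
    simp [e, IsBaseChange.equiv_tmul]
  obtain ⟨h1, h2⟩ := (isGlueable_iff h.1 A).mp hA
  rw [isGlueingPair_iff (quotPowBijective_baseChange h.1 A A')]
  refine ⟨fun a ⟨n, hn⟩ ha => h1 a ⟨n, by rwa [Algebra.smul_def, map_pow]⟩
    (e.injective (by rw [he, ha, map_zero])), fun x ⟨n, hn⟩ => ?_⟩
  obtain ⟨a, ⟨j, hj⟩, ha⟩ := h2 (e.symm x) ⟨n, by
    refine e.injective ?_
    rw [← algebraMap_smul R' (f ^ n), map_smul, algebraMap_smul, LinearEquiv.apply_symm_apply, map_zero,
      Algebra.smul_def, map_pow, IsScalarTower.algebraMap_apply R A A', hn]⟩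
  exact ⟨a, ⟨j, by rwa [Algebra.smul_def, map_pow] at hj⟩, by rw [← he, ha, LinearEquiv.apply_symm_apply]⟩

/-- A submodule that fills up both base changes is everything. -/
lemma eq_top_of_lTensor_surjective (hq : EtGlue.QuotPowBijective R R' f) {M : Type u} [AddCommGroup M]
    [Module R M] (S : Type u) [CommRing S] [Algebra R S] [IsLocalization.Away f S] (N : Submodule R M)
    (h1 : Function.Surjective (N.subtype.lTensor R')) (h2 : Function.Surjective (N.subtype.lTensor S)) :
    N = ⊤ := by
  have key : ∀ (T : Type u) [CommRing T] [Algebra R T], Function.Surjective (N.subtype.lTensor T) →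
      ∀ z : T ⊗[R] (M ⧸ N), z = 0 := by
    intro T _ _ hT z
    obtain ⟨w, rfl⟩ := LinearMap.lTensor_surjective T N.mkQ_surjective z
    obtain ⟨v, rfl⟩ := hT w
    rw [← LinearMap.lTensor_comp_apply, (LinearMap.exact_subtype_mkQ N).linearMap_comp_eq_zero,
      LinearMap.lTensor_zero, LinearMap.zero_apply]
  have hs : Subsingleton (M ⧸ N) := by
    refine subsingleton_of_baseChange hq (key R' h1) fun q => ?_
    let e := (IsLocalizedModule.isBaseChange (Submonoid.powers f) S
      (TensorProduct.mk R S (M ⧸ N) 1)).equiv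
    have h0 : TensorProduct.mk R S (M ⧸ N) 1 q = 0 := key S h2 _
    obtain ⟨⟨_, n, rfl⟩, hn⟩ := (IsLocalizedModule.eq_zero_iff (Submonoid.powers f) _).mp h0
    exact ⟨n, hn⟩
  exact Submodule.Quotient.subsingleton_iff.mp hs

end Base

section Algebra

variable {A A' Ag : Type u} [CommRing A] [CommRing A'] [CommRing Ag] [Algebra A A'] [Algebra A Ag]
  {g : A} [IsLocalization.Away g Ag]
  {B B' Bg : Type u} [CommRing B] [CommRing B'] [CommRing Bg] [Algebra A B]
  [Algebra A B'] [Algebra A' B'] [Algebra B B'] [IsScalarTower A A' B'] [IsScalarTower A B B']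
  [Algebra.IsPushout A A' B B']
  [Algebra A Bg] [Algebra Ag Bg] [Algebra B Bg] [IsScalarTower A Ag Bg] [IsScalarTower A B Bg]
  [Algebra.IsPushout A Ag B Bg]

omit [IsLocalization.Away g Ag] in
lemma lTensor_surjective_of_adjoin {T : Type u} [CommRing T] [Algebra A T] {BT : Type u} [CommRing BT]
    [Algebra A BT] [Algebra T BT] [Algebra B BT] [IsScalarTower A T BT] [IsScalarTower A B BT]
    [Algebra.IsPushout A T B BT] (C : Submodule A B)
    (hC : Submodule.span T (algebraMap B BT '' (C : Set B)) = ⊤) :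
    Function.Surjective (C.subtype.lTensor T) := by
  let e : T ⊗[A] B ≃ₗ[T] BT := (Algebra.IsPushout.out (R := A) (S := T) (R' := B) (S' := BT)).equiv
  intro z
  have hz : e z ∈ Submodule.span T (algebraMap B BT '' (C : Set B)) := hC ▸ Submodule.mem_top
  suffices h : ∀ y ∈ Submodule.span T (algebraMap B BT '' (C : Set B)),
      e.symm y ∈ LinearMap.range (C.subtype.baseChange T) by
    obtain ⟨w, hw⟩ := h _ hz
    exact ⟨w, by rw [← LinearMap.baseChange_eq_ltensor, hw, LinearEquiv.symm_apply_apply]⟩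
  intro y hy
  induction hy using Submodule.span_induction with
  | mem y hy =>
    obtain ⟨c, hc, rfl⟩ := hy
    refine ⟨1 ⊗ₜ ⟨c, hc⟩, ?_⟩
    rw [LinearEquiv.eq_symm_apply, LinearMap.baseChange_tmul]
    simp [e, IsBaseChange.equiv_tmul]
  | zero => rw [map_zero]; exact zero_mem _
  | add x y _ _ hx hy => rw [map_add]; exact add_mem hx hy
  | smul c x _ hx => rw [map_smul]; exact Submodule.smul_mem _ _ hx

omit [IsLocalization.Away g Ag] in
lemma algebraMap_image_range_eq {φ : A →ₗ[A] B} (hφ : φ = Algebra.linearMap A B) {T BT : Type u}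
    [CommRing T] [Algebra A T] [CommRing BT]
    [Algebra A BT] [Algebra T BT] [Algebra B BT] [IsScalarTower A T BT] [IsScalarTower A B BT]
    (hs : Function.Surjective (algebraMap T BT)) :
    Submodule.span T (algebraMap B BT '' (LinearMap.range φ : Set B)) = ⊤ := by
  subst hφ
  refine eq_top_iff.mpr fun y _ => ?_
  obtain ⟨t, rfl⟩ := hs y
  rw [Algebra.algebraMap_eq_smul_one]
  refine Submodule.smul_mem _ _ (Submodule.subset_span ⟨1, ⟨1, by simp⟩, map_one _⟩)

lemma surjective_of_glue (hq : EtGlue.QuotPowBijective A A' g)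
    (h1 : Function.Surjective (algebraMap A' B')) (h2 : Function.Surjective (algebraMap Ag Bg)) :
    Function.Surjective (algebraMap A B) := by
  have := eq_top_of_lTensor_surjective hq Ag (LinearMap.range (Algebra.linearMap A B))
    (lTensor_surjective_of_adjoin _ (algebraMap_image_range_eq rfl h1))
    (lTensor_surjective_of_adjoin _ (algebraMap_image_range_eq rfl h2))
  exact LinearMap.range_eq_top.mp this

omit [IsLocalization.Away g Ag] in
lemma exists_span_image {T BT : Type u}
    [CommRing T] [Algebra A T] [CommRing BT]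
    [Algebra A BT] [Algebra T BT] [Algebra B BT] [IsScalarTower A T BT] [IsScalarTower A B BT]
    [Algebra.IsPushout A T B BT] (y : BT) :
    ∃ s : Finset B, y ∈ Submodule.span T (algebraMap B BT '' (s : Set B)) := by
  classical
  induction y using (Algebra.IsPushout.out (R := A) (S := T) (R' := B) (S' := BT)).inductionOn with
  | zero => exact ⟨∅, zero_mem _⟩
  | tmul b => exact ⟨{b}, Submodule.subset_span ⟨b, by simp, rfl⟩⟩
  | smul t x hx =>
    obtain ⟨s, hs⟩ := hx
    exact ⟨s, Submodule.smul_mem _ _ hs⟩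
  | add x y hx hy =>
    obtain ⟨s, hs⟩ := hx; obtain ⟨t, ht⟩ := hy
    exact ⟨s ∪ t, add_mem (Submodule.span_mono (Set.image_mono (by simp)) hs)
      (Submodule.span_mono (Set.image_mono (by simp)) ht)⟩

lemma finiteType_of_glue (hq : EtGlue.QuotPowBijective A A' g)
    [h1 : Algebra.FiniteType A' B'] [h2 : Algebra.FiniteType Ag Bg] : Algebra.FiniteType A B := by
  classical
  obtain ⟨s, hs⟩ := h1.out
  obtain ⟨t, ht⟩ := h2.out
  choose F hF using fun y : B' => exists_span_image (A := A) (T := A') (B := B) y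
  choose G hG using fun y : Bg => exists_span_image (A := A) (T := Ag) (B := B) y
  let C : Subalgebra A B := Algebra.adjoin A ((s.biUnion F ∪ t.biUnion G : Finset B) : Set B)
  refine ⟨⟨s.biUnion F ∪ t.biUnion G, ?_⟩⟩
  show C = ⊤
  have key : ∀ (T BT : Type u) [CommRing T] [Algebra A T] [CommRing BT]
      [Algebra A BT] [Algebra T BT] [Algebra B BT] [IsScalarTower A T BT] [IsScalarTower A B BT]
      [Algebra.IsPushout A T B BT] (s : Set BT),
      Algebra.adjoin T s = ⊤ → s ⊆ Submodule.span T (algebraMap B BT '' (C : Set B)) →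
      Function.Surjective (C.toSubmodule.subtype.lTensor T) := by
    intro T BT _ _ _ _ _ _ _ _ _ s hs hsub
    refine lTensor_surjective_of_adjoin (BT := BT) _ (eq_top_iff.mpr fun y _ => ?_)
    have hy : y ∈ Algebra.adjoin T s := hs ▸ Algebra.mem_top
    clear * - hy hsub
    induction hy using Algebra.adjoin_induction with
    | mem x hx => exact hsub hx
    | algebraMap r =>
      rw [Algebra.algebraMap_eq_smul_one]
      exact Submodule.smul_mem _ _ (Submodule.subset_span ⟨1, C.one_mem, map_one _⟩)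
    | add x y _ _ hx hy => exact add_mem hx hy
    | mul x y _ _ hx hy =>
      have := Submodule.mul_mem_mul hx hy
      rw [Submodule.span_mul_span] at this
      refine Submodule.span_mono ?_ this
      rintro _ ⟨_, ⟨a, ha, rfl⟩, _, ⟨b, hb, rfl⟩, rfl⟩
      exact ⟨a * b, C.mul_mem ha hb, map_mul _ _ _⟩
  have h := eq_top_of_lTensor_surjective hq Ag C.toSubmodule
    (key A' B' _ hs fun y hy => Submodule.span_mono (Set.image_mono ?_) (hF y))
    (key Ag Bg _ ht fun y hy => Submodule.span_mono (Set.image_mono ?_) (hG y))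
  · exact eq_top_iff.mpr fun b _ => show b ∈ C.toSubmodule from h ▸ Submodule.mem_top
  · exact fun b hb => Algebra.subset_adjoin (Finset.mem_coe.mpr (Finset.mem_union_left _ (Finset.mem_biUnion.mpr ⟨y, hy, hb⟩)))
  · exact fun b hb => Algebra.subset_adjoin (Finset.mem_coe.mpr (Finset.mem_union_right _ (Finset.mem_biUnion.mpr ⟨y, hy, hb⟩)))

omit [IsLocalization.Away g Ag] in
variable (A B) in
/-- The canonical `T`-algebra isomorphism onto a pushout. -/
noncomputable def pushoutEquiv (T BT : Type u) [CommRing T] [Algebra A T] [CommRing BT]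
    [Algebra A BT] [Algebra T BT] [Algebra B BT] [IsScalarTower A T BT] [IsScalarTower A B BT]
    [Algebra.IsPushout A T B BT] : T ⊗[A] B ≃ₐ[T] BT :=
  Algebra.IsPushout.equiv A T B BT

lemma finite_of_glue (hq : EtGlue.QuotPowBijective A A' g)
    [Module.Finite A' B'] [Module.Finite Ag Bg] : Module.Finite A B := by
  refine (finite_iff hq).mpr ⟨Module.Finite.equiv (pushoutEquiv A B A' B').toLinearEquiv.symm, ?_⟩
  haveI : Module.Finite Ag (Ag ⊗[A] B) := Module.Finite.equiv (pushoutEquiv A B Ag Bg).toLinearEquiv.symm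
  let e0 : Ag ≃ₐ[A] Localization.Away g := IsLocalization.algEquiv (Submonoid.powers g) _ _
  let φ : Ag ⊗[A] B →ₗ[A] LocalizedModule (Submonoid.powers g) B :=
    (IsLocalizedModule.isBaseChange (Submonoid.powers g) (Localization.Away g)
      (LocalizedModule.mkLinearMap (Submonoid.powers g) B)).equiv.toLinearMap.restrictScalars A ∘ₗ
      e0.toLinearMap.rTensor B
  let σ : Ag →+* Localization.Away g := e0.toRingEquiv.toRingHom
  haveI : RingHomSurjective σ := ⟨e0.surjective⟩
  let φ' : Ag ⊗[A] B →ₛₗ[σ] LocalizedModule (Submonoid.powers g) B :=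
    { toFun := φ
      map_add' := map_add φ
      map_smul' := fun a x => by
        induction x with
        | zero => simp
        | tmul c b => simp [φ, σ, IsBaseChange.equiv_tmul, TensorProduct.smul_tmul', map_mul, mul_smul]
        | add x y hx hy => simp only [smul_add, map_add, hx, hy] }
  exact Module.Finite.of_surjective φ' ((IsLocalizedModule.isBaseChange (Submonoid.powers g) (Localization.Away g)
      (LocalizedModule.mkLinearMap (Submonoid.powers g) B)).equiv.surjective.comp
      (LinearMap.rTensor_surjective B e0.surjective))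

lemma flat_of_glue (h : EtGlue.IsGlueingPair A A' g)
    [Module.Flat A' B'] [Module.Flat Ag Bg] : Module.Flat A B := by
  haveI : Module.Flat A' (A' ⊗[A] B) := Module.Flat.of_linearEquiv (pushoutEquiv A B A' B').toLinearEquiv
  haveI : Module.Flat Ag (Ag ⊗[A] B) := Module.Flat.of_linearEquiv (pushoutEquiv A B Ag Bg).toLinearEquiv
  let e0 : Ag ≃ₐ[A] Localization.Away g := IsLocalization.algEquiv (Submonoid.powers g) _ _
  haveI : Module.Flat (Localization.Away g) (Localization.Away g ⊗[A] B) := by
    letI : Algebra Ag (Localization.Away g) := e0.toRingEquiv.toRingHom.toAlgebra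
    haveI : IsScalarTower A Ag (Localization.Away g) := IsScalarTower.of_algebraMap_eq fun a => (e0.commutes a).symm
    exact Module.Flat.of_linearEquiv
      (TensorProduct.AlgebraTensorModule.cancelBaseChange A Ag (Localization.Away g) (Localization.Away g) B).symm
  exact flat_of_baseChange h B

lemma finitePresentation_of_glue (hq : EtGlue.QuotPowBijective A A' g) [Module.Flat A B]
    [Algebra.FinitePresentation A' B'] [Algebra.FinitePresentation Ag Bg] :
    Algebra.FinitePresentation A B := by
  classical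
  haveI := finiteType_of_glue (B := B) (B' := B') (Ag := Ag) (Bg := Bg) hq
  obtain ⟨n, π, hπ⟩ := Algebra.FiniteType.iff_quotient_mvPolynomial''.mp ‹Algebra.FiniteType A B›
  let P := MvPolynomial (Fin n) A
  let J := RingHom.ker π
  have key : ∀ (T : Type u) [CommRing T] [Algebra A T] [Algebra.FinitePresentation T (T ⊗[A] B)],
      ∃ s : Finset P, (s : Set P) ⊆ J ∧ ∀ J₀ : Ideal P, (s : Set P) ⊆ J₀ → (hle : J₀ ≤ J) →
        Function.Surjective (((Submodule.inclusion
          (show J₀.restrictScalars A ≤ J.restrictScalars A from hle))).lTensor T) := by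
    intro T _ _ _
    let πT : T ⊗[A] P →ₐ[T] T ⊗[A] B := Algebra.TensorProduct.map (AlgHom.id T T) π
    have hπT : Function.Surjective πT := LinearMap.lTensor_surjective T (g := π.toLinearMap) hπ
    have hfg : (RingHom.ker πT.toRingHom).FG := Algebra.FinitePresentation.ker_fG_of_surjective πT hπT
    have hker : RingHom.ker πT.toRingHom = Ideal.span ((Algebra.TensorProduct.includeRight :
        P →ₐ[A] T ⊗[A] P) '' (J : Set P)) := by
      exact Algebra.TensorProduct.lTensor_ker (R := A) (A := T) π hπ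
    rw [hker] at hfg
    obtain ⟨s, hs, hspan⟩ := (Submodule.fg_span_iff_fg_span_finset_subset _).mp hfg
    choose p hp hp' using fun y : s => hs y.2
    refine ⟨Finset.univ.image p, ?_, fun J₀ hJ₀ hle z => ?_⟩
    · intro x hx
      obtain ⟨y, -, rfl⟩ := Finset.mem_image.mp hx
      exact hp y
    let I₀ : Submodule A (T ⊗[A] P) := LinearMap.range ((J₀.restrictScalars A).subtype.lTensor T)
    have hI₀ : ∀ (w : T ⊗[A] P), ∀ x ∈ I₀, w * x ∈ I₀ := by
      rintro w _ ⟨x, rfl⟩
      induction x with
      | zero => simp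
      | tmul t j =>
        induction w with
        | zero => simp
        | tmul t' q =>
          exact ⟨(t' * t) ⊗ₜ ⟨q * j, J₀.mul_mem_left q j.2⟩, by simp⟩
        | add a b ha hb => rw [add_mul]; exact add_mem ha hb
      | add a b ha hb => rw [map_add, mul_add]; exact add_mem ha hb
    let J₀' : Ideal (T ⊗[A] P) := { I₀.toAddSubmonoid with smul_mem' := fun w x hx => hI₀ w x hx }
    have hle' : Ideal.span ((Algebra.TensorProduct.includeRight : P →ₐ[A] T ⊗[A] P) '' (J : Set P)) ≤ J₀' := by
      refine hspan.le.trans (Ideal.span_le.mpr fun y hy => ?_)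
      have hmem : p ⟨y, hy⟩ ∈ J₀ := hJ₀ (Finset.mem_coe.mpr (Finset.mem_image_of_mem p (Finset.mem_univ _)))
      exact ⟨1 ⊗ₜ ⟨p ⟨y, hy⟩, hmem⟩, (LinearMap.lTensor_tmul _ _ _ _).trans (hp' ⟨y, hy⟩)⟩
    have hz : (J.restrictScalars A).subtype.lTensor T z ∈ J₀' := by
      refine hle' ?_
      induction z with
      | zero => simp
      | tmul t j =>
        rw [LinearMap.lTensor_tmul, Submodule.subtype_apply,
          show t ⊗ₜ[A] (j : P) = (t ⊗ₜ[A] (1 : P)) * ((1 : T) ⊗ₜ[A] (j : P)) by simp]
        exact Ideal.mul_mem_left _ _ (Ideal.subset_span ⟨j, j.2, rfl⟩)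
      | add a b ha hb => rw [map_add]; exact add_mem ha hb
    obtain ⟨w, hw⟩ := hz
    refine ⟨w, ?_⟩
    have hinj : Function.Injective ((J.restrictScalars A).subtype.lTensor T) :=
      LinearMap.lTensor_injective_of_exact_of_flat π.toLinearMap hπ _ Subtype.val_injective
        (fun x => ⟨fun hx => ⟨⟨x, hx⟩, rfl⟩, fun ⟨y, hy⟩ => hy ▸ y.2⟩) T
    refine hinj ?_
    rw [← LinearMap.lTensor_comp_apply]
    exact hw
  haveI : Algebra.FinitePresentation A' (A' ⊗[A] B) :=
    Algebra.FinitePresentation.equiv (pushoutEquiv A B A' B').symm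
  haveI : Algebra.FinitePresentation Ag (Ag ⊗[A] B) :=
    Algebra.FinitePresentation.equiv (pushoutEquiv A B Ag Bg).symm
  obtain ⟨s1, hs1, h1⟩ := key A'
  obtain ⟨s2, hs2, h2⟩ := key Ag
  let J₀ : Ideal P := Ideal.span (↑(s1 ∪ s2) : Set P)
  have hle : J₀ ≤ J := Ideal.span_le.mpr (by simp [hs1, hs2])
  have hsub1 : (s1 : Set P) ⊆ J₀ := fun x hx => Ideal.subset_span (Finset.mem_coe.mpr (Finset.mem_union_left _ hx))
  have hsub2 : (s2 : Set P) ⊆ J₀ := fun x hx => Ideal.subset_span (Finset.mem_coe.mpr (Finset.mem_union_right _ hx))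
  let ι : J₀.restrictScalars A →ₗ[A] J.restrictScalars A := Submodule.inclusion hle
  have htop := eq_top_of_lTensor_surjective hq Ag (LinearMap.range ι)
    (fun z => by
      obtain ⟨w, rfl⟩ := h1 J₀ hsub1 hle z
      exact ⟨ι.rangeRestrict.lTensor A' w, by rw [← LinearMap.lTensor_comp_apply]; rfl⟩)
    (fun z => by
      obtain ⟨w, rfl⟩ := h2 J₀ hsub2 hle z
      exact ⟨ι.rangeRestrict.lTensor Ag w, by rw [← LinearMap.lTensor_comp_apply]; rfl⟩)
  have hJ : J = J₀ := by
    refine le_antisymm (fun x hx => ?_) hle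
    obtain ⟨⟨y, hy⟩, hyx⟩ := LinearMap.range_eq_top.mp htop ⟨x, hx⟩
    rw [← show y = x from congrArg Subtype.val hyx]
    exact hy
  exact Algebra.FinitePresentation.of_surjective hπ (show J.FG from hJ ▸ ⟨_, rfl⟩)

lemma subsingleton_kaehler_of_glue (hq : EtGlue.QuotPowBijective A A' g)
    [Algebra.FormallyUnramified A' B'] [Algebra.FormallyUnramified Ag Bg] :
    Algebra.FormallyUnramified A B := by
  rw [Algebra.formallyUnramified_iff]
  have h1 : ∀ z : A' ⊗[A] Ω[B⁄A], z = 0 := fun z =>
    (KaehlerDifferential.tensorKaehlerEquivBase A A' B B').injective (Subsingleton.elim _ _)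
  have h2 : ∀ z : Ag ⊗[A] Ω[B⁄A], z = 0 := fun z =>
    (KaehlerDifferential.tensorKaehlerEquivBase A Ag B Bg).injective (Subsingleton.elim _ _)
  have := eq_top_of_lTensor_surjective hq Ag (⊥ : Submodule A Ω[B⁄A])
    (fun z => ⟨0, by rw [map_zero, h1 z]⟩) (fun z => ⟨0, by rw [map_zero, h2 z]⟩)
  exact subsingleton_of_forall_eq 0 fun x => (Submodule.mem_bot A).mp (this ▸ Submodule.mem_top)

end Algebra

end Groth.Agent.EtGlueLib
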