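import Groth.Agent.EtGlueLib.Basic
import Mathlib.RingTheory.Localization.Finiteness

/-! Finiteness is detected by formal glueing. -/

universe u

open TensorProduct

namespace Groth.Agent.EtGlueLib

variable {R R' : Type u} [CommRing R] [CommRing R'] [Algebra R R'] {f : R}
  (hq : EtGlue.QuotPowBijective R R' f)
  {M : Type u} [AddCommGroup M] [Module R M]

include hq

/-- A module vanishing after base change to `R'` and after inverting `f` vanishes. -/
lemma subsingleton_of_baseChange (h' : ∀ x : R' ⊗[R] M, x = 0) (hf : ∀ m : M, ∃ n : ℕ, f ^ n • m = 0) :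
    Subsingleton M :=
  subsingleton_of_forall_eq 0 fun m => (mk_bijective_of_torsion hq hf).1 ((h' _).trans (h' _).symm)

/-- A submodule that fills up both base changes is everything. -/
lemma eq_top_of_baseChange (N : Submodule R M)
    (h' : Submodule.span R' ((fun n : M => ((1 : R') ⊗ₜ[R] n : R' ⊗[R] M)) '' (N : Set M)) = ⊤)
    (hf : ∀ m : M, ∃ n : ℕ, f ^ n • m ∈ N) : N = ⊤ := by
  have h0 : ∀ z : R' ⊗[R] (M ⧸ N), z = 0 := by
    intro z
    obtain ⟨w, rfl⟩ := LinearMap.lTensor_surjective R' N.mkQ_surjective z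
    have hw : w ∈ Submodule.span R' ((fun n : M => ((1 : R') ⊗ₜ[R] n : R' ⊗[R] M)) '' (N : Set M)) :=
      h' ▸ Submodule.mem_top
    rw [← LinearMap.baseChange_eq_ltensor]
    induction hw using Submodule.span_induction with
    | mem y hy =>
      obtain ⟨n, hn, rfl⟩ := hy
      rw [LinearMap.baseChange_tmul, show N.mkQ n = 0 from (Submodule.Quotient.mk_eq_zero _).mpr hn,
        TensorProduct.tmul_zero]
    | zero => rw [map_zero]
    | add x y _ _ hx hy => rw [map_add, hx, hy, add_zero]
    | smul c x _ hx => rw [map_smul, hx, smul_zero]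
  have hs : Subsingleton (M ⧸ N) := by
    refine subsingleton_of_baseChange hq h0 fun m => ?_
    obtain ⟨m, rfl⟩ := Submodule.Quotient.mk_surjective _ m
    obtain ⟨n, hn⟩ := hf m
    exact ⟨n, by rwa [← Submodule.Quotient.mk_smul, Submodule.Quotient.mk_eq_zero]⟩
  exact Submodule.Quotient.subsingleton_iff.mp hs

omit hq in
lemma exists_finite_span (y : R' ⊗[R] M) : ∃ T : Finset M,
    y ∈ Submodule.span R' ((fun n : M => ((1 : R') ⊗ₜ[R] n : R' ⊗[R] M)) '' (T : Set M)) := by
  classical
  induction y with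
  | zero => exact ⟨∅, zero_mem _⟩
  | tmul a m =>
    refine ⟨{m}, ?_⟩
    have : (a ⊗ₜ[R] m : R' ⊗[R] M) = a • ((1 : R') ⊗ₜ[R] m) := by
      rw [TensorProduct.smul_tmul', smul_eq_mul, mul_one]
    rw [this]
    exact Submodule.smul_mem _ _ (Submodule.subset_span ⟨m, by simp, rfl⟩)
  | add x y hx hy =>
    obtain ⟨T, hT⟩ := hx; obtain ⟨U, hU⟩ := hy
    exact ⟨T ∪ U, add_mem (Submodule.span_mono (Set.image_mono (by simp)) hT)
      (Submodule.span_mono (Set.image_mono (by simp)) hU)⟩

lemma finite_iff :
    Module.Finite R M ↔ Module.Finite R' (R' ⊗[R] M) ∧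
      Module.Finite (Localization.Away f) (LocalizedModule (Submonoid.powers f) M) := by
  classical
  constructor
  · intro _
    exact ⟨inferInstance, Module.Finite.of_isLocalizedModule (Submonoid.powers f)
      (LocalizedModule.mkLinearMap (Submonoid.powers f) M)⟩
  rintro ⟨h1, h2⟩
  obtain ⟨s, hs⟩ := h1.fg_top
  obtain ⟨t, ht⟩ := h2.fg_top
  choose T hT using exists_finite_span (R' := R') (R := R) (M := M)
  choose k x hx using exists_surj (f := f) (X := M)
  let G : Finset M := s.biUnion T ∪ t.image x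
  refine ⟨⟨G, eq_top_of_baseChange hq _ ?_ fun m => ?_⟩⟩
  · rw [eq_top_iff, ← hs, Submodule.span_le]
    intro y hy
    refine Submodule.span_mono (Set.image_mono fun n hn => ?_) (hT y)
    exact Submodule.subset_span (Finset.mem_coe.mpr (Finset.mem_union_left _ (Finset.mem_biUnion.mpr ⟨y, hy, hn⟩)))
  · have key : ∀ y ∈ Submodule.span (Localization.Away f) (t : Set (LocalizedModule (Submonoid.powers f) M)),
        ∃ (n : ℕ), ∃ g ∈ Submodule.span R (G : Set M),
          f ^ n • y = LocalizedModule.mkLinearMap (Submonoid.powers f) M g := by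
      intro y hy
      induction hy using Submodule.span_induction with
      | mem y hy =>
        exact ⟨k y, x y, Submodule.subset_span (Finset.mem_coe.mpr (Finset.mem_union_right _ (Finset.mem_image_of_mem _ hy))), hx y⟩
      | zero => exact ⟨0, 0, zero_mem _, by simp⟩
      | add a b _ _ ha hb =>
        obtain ⟨i, g, hg, e1⟩ := ha; obtain ⟨j, g', hg', e2⟩ := hb
        refine ⟨i + j, f ^ j • g + f ^ i • g', add_mem (Submodule.smul_mem _ _ hg) (Submodule.smul_mem _ _ hg'), ?_⟩
        rw [map_add, map_smul, map_smul, ← e1, ← e2, ← mul_smul, ← mul_smul, ← pow_add, ← pow_add, smul_add, add_comm j i]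
      | smul c a _ ha =>
        obtain ⟨i, g, hg, e1⟩ := ha
        obtain ⟨j, r, hr⟩ := IsLocalization.Away.surj f c
        refine ⟨i + j, r • g, Submodule.smul_mem _ _ hg, ?_⟩
        rw [map_smul, ← e1, ← algebraMap_smul (Localization.Away f) (f ^ (i + j)),
          ← algebraMap_smul (Localization.Away f) r, ← algebraMap_smul (Localization.Away f) (f ^ i),
          smul_smul, smul_smul, ← hr, map_pow, map_pow, pow_add]
        congr 1
        ring
    obtain ⟨n, g, hg, e⟩ := key (LocalizedModule.mkLinearMap (Submonoid.powers f) M m) (ht ▸ Submodule.mem_top)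
    obtain ⟨j, hj⟩ := (localized_eq_zero_iff (f := f) (f ^ n • m - g)).mp (by rw [map_sub, map_smul, e, sub_self])
    refine ⟨j + n, ?_⟩
    rw [smul_sub, sub_eq_zero, ← mul_smul, ← pow_add] at hj
    exact hj ▸ Submodule.smul_mem _ _ hg

end Groth.Agent.EtGlueLib
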