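import Groth.Agent.EtGlueLib.Finite
import Mathlib.RingTheory.Flat.Equalizer
import Mathlib.RingTheory.Flat.Stability
import Mathlib.RingTheory.Flat.Localization
import Mathlib.LinearAlgebra.TensorProduct.Prod
import Mathlib.RingTheory.Flat.EquationalCriterion
import Mathlib.RingTheory.Localization.BaseChange
import Mathlib.RingTheory.LocalProperties.Projective

/-! Flatness is detected by a glueing pair. -/

universe u

open TensorProduct

namespace Groth.Agent.EtGlueLib

section General

variable {R : Type u} [CommRing R]

/-- `Good M N`: `Tor₁(M, N) = 0`, phrased with the tautological presentation of `M`. -/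
def Good (M N : Type u) [AddCommGroup M] [Module R M] [AddCommGroup N] [Module R N] : Prop :=
  Function.Injective ((LinearMap.ker (Finsupp.linearCombination R (id : M → M))).subtype.rTensor N)

variable {M N₁ N₂ N₃ : Type u} [AddCommGroup M] [Module R M] [AddCommGroup N₁] [Module R N₁]
  [AddCommGroup N₂] [Module R N₂] [AddCommGroup N₃] [Module R N₃]

lemma lTensor_injective_of_good {g : N₁ →ₗ[R] N₂} {p : N₂ →ₗ[R] N₃} (hg : Function.Injective g)
    (hp : Function.Surjective p) (hex : Function.Exact g p) (h : Good (R := R) M N₃) :
    Function.Injective (g.lTensor M) := by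
  let ι := (LinearMap.ker (Finsupp.linearCombination R (id : M → M))).subtype
  let π : (M →₀ R) →ₗ[R] M := Finsupp.linearCombination R id
  let K := LinearMap.ker π
  have hι : Function.Exact ι π := LinearMap.exact_subtype_ker_map π
  have hπ : Function.Surjective π := Finsupp.linearCombination_id_surjective R M
  rw [injective_iff_map_eq_zero]
  intro ξ hξ
  obtain ⟨ξ', rfl⟩ := LinearMap.rTensor_surjective N₁ hπ ξ
  have h1 : π.rTensor N₂ (g.lTensor (M →₀ R) ξ') = 0 := by
    rw [← LinearMap.comp_apply, LinearMap.rTensor_comp_lTensor, ← LinearMap.lTensor_comp_rTensor]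
    exact hξ
  obtain ⟨κ, hκ⟩ := (rTensor_exact (R := R) (M := K) (N := M →₀ R) (P := M) N₂ hι hπ _).mp h1
  have h2 : p.lTensor K κ = 0 := by
    refine h ?_
    rw [map_zero, ← LinearMap.comp_apply, LinearMap.rTensor_comp_lTensor, ← LinearMap.lTensor_comp_rTensor,
      LinearMap.comp_apply]
    show p.lTensor (M →₀ R) (ι.rTensor N₂ κ) = 0
    rw [hκ, ← LinearMap.lTensor_comp_apply, hex.linearMap_comp_eq_zero, LinearMap.lTensor_zero, LinearMap.zero_apply]
  obtain ⟨κ₁, rfl⟩ := (lTensor_exact (R := R) K hex hp κ).mp h2
  have h3 : ξ' = ι.rTensor N₁ κ₁ := by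
    refine Module.Flat.lTensor_preserves_injective_linearMap (M := M →₀ R) g hg ?_
    rw [← hκ, ← LinearMap.comp_apply, LinearMap.rTensor_comp_lTensor, ← LinearMap.lTensor_comp_rTensor]
    rfl
  rw [h3, ← LinearMap.rTensor_comp_apply, hι.linearMap_comp_eq_zero, LinearMap.rTensor_zero, LinearMap.zero_apply]

lemma rTensor_injective_of_middle {K F : Type u} [AddCommGroup K] [Module R K] [AddCommGroup F] [Module R F]
    [Module.Flat R F] (ι : K →ₗ[R] F) {g : N₁ →ₗ[R] N₂} {p : N₂ →ₗ[R] N₃} (hg : Function.Injective g)
    (hp : Function.Surjective p) (hex : Function.Exact g p) (h1 : Function.Injective (ι.rTensor N₁))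
    (h3 : Function.Injective (ι.rTensor N₃)) : Function.Injective (ι.rTensor N₂) := by
  rw [injective_iff_map_eq_zero]
  intro κ hκ
  have h2 : p.lTensor K κ = 0 := by
    refine h3 ?_
    rw [map_zero, ← LinearMap.comp_apply, LinearMap.rTensor_comp_lTensor, ← LinearMap.lTensor_comp_rTensor,
      LinearMap.comp_apply, hκ, map_zero]
  obtain ⟨κ₁, rfl⟩ := (lTensor_exact (R := R) K hex hp κ).mp h2
  have h4 : κ₁ = 0 := by
    refine h1 ?_
    rw [map_zero]
    refine Module.Flat.lTensor_preserves_injective_linearMap (M := F) g hg ?_
    rw [map_zero, ← LinearMap.comp_apply, LinearMap.lTensor_comp_rTensor, ← LinearMap.rTensor_comp_lTensor]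
    exact hκ
  rw [h4, map_zero]

lemma rTensor_subtype_injective_of_middle {F : Type u} [AddCommGroup F] [Module R F] [Module.Flat R F]
    (K : Submodule R F) {g : N₁ →ₗ[R] N₂} {p : N₂ →ₗ[R] N₃} (hg : Function.Injective g)
    (hp : Function.Surjective p) (hex : Function.Exact g p) (h1 : Function.Injective (K.subtype.rTensor N₁))
    (h3 : Function.Injective (K.subtype.rTensor N₃)) : Function.Injective (K.subtype.rTensor N₂) :=
  rTensor_injective_of_middle (K := K) (F := F) K.subtype hg hp hex h1 h3

lemma good_of_middle {g : N₁ →ₗ[R] N₂} {p : N₂ →ₗ[R] N₃} (hg : Function.Injective g)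
    (hp : Function.Surjective p) (hex : Function.Exact g p) (h1 : Good (R := R) M N₁) (h3 : Good (R := R) M N₃) :
    Good (R := R) M N₂ := by
  revert h1 h3
  unfold Good
  generalize LinearMap.ker (Finsupp.linearCombination R (id : M → M)) = K
  intro h1 h3
  exact rTensor_subtype_injective_of_middle (F := M →₀ R) K hg hp hex h1 h3

lemma good_of_left {g : N₁ →ₗ[R] N₂} {p : N₂ →ₗ[R] N₃} (hg : Function.Injective g)
    (hp : Function.Surjective p) (hex : Function.Exact g p) (h2 : Good (R := R) M N₂)
    (h3 : Good (R := R) (LinearMap.ker (Finsupp.linearCombination R (id : M → M))) N₃) :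
    Good (R := R) M N₁ := by
  intro a b hab
  refine lTensor_injective_of_good hg hp hex h3 (h2 ?_)
  rw [← LinearMap.comp_apply, LinearMap.rTensor_comp_lTensor, ← LinearMap.comp_apply (f := LinearMap.rTensor N₂ _),
    LinearMap.rTensor_comp_lTensor, ← LinearMap.lTensor_comp_rTensor, LinearMap.comp_apply, LinearMap.comp_apply]
  exact congrArg _ hab

lemma good_congr (e : N₁ ≃ₗ[R] N₂) (h : Good (R := R) M N₁) : Good (R := R) M N₂ := by
  intro a b hab
  refine (TensorProduct.congr (LinearEquiv.refl R _) e.symm).injective (h ?_)
  have key : ∀ z, (LinearMap.ker (Finsupp.linearCombination R (id : M → M))).subtype.rTensor N₁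
      (TensorProduct.congr (LinearEquiv.refl R _) e.symm z) =
      TensorProduct.congr (LinearEquiv.refl R _) e.symm
        ((LinearMap.ker (Finsupp.linearCombination R (id : M → M))).subtype.rTensor N₂ z) := fun z => by
    induction z with
    | zero => simp
    | tmul x y => simp
    | add x y hx hy => simp [hx, hy]
  rw [key, key, hab]

/-- Modules over an algebra `S` are good if `S ⊗` keeps the presentation injective and `S ⊗ M` is flat. -/
lemma good_of_module {S : Type u} [CommRing S] [Algebra R S] [Module.Flat S (S ⊗[R] M)]
    (hS : Function.Injective ((LinearMap.ker (Finsupp.linearCombination R (id : M → M))).subtype.lTensor S))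
    (N : Type u) [AddCommGroup N] [Module R N] [Module S N] [IsScalarTower R S N] : Good (R := R) M N := by
  let π : (M →₀ R) →ₗ[R] M := Finsupp.linearCombination R id
  let K := LinearMap.ker π
  let g : S ⊗[R] K →ₗ[S] S ⊗[R] (M →₀ R) := K.subtype.baseChange S
  have hg : Function.Injective g := by rw [LinearMap.baseChange_eq_ltensor]; exact hS
  have hπ : Function.Surjective (π.baseChange S) := by
    rw [LinearMap.baseChange_eq_ltensor]
    exact LinearMap.lTensor_surjective S (Finsupp.linearCombination_id_surjective R M)
  have hex : Function.Exact g (π.baseChange S) := by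
    show Function.Exact (K.subtype.baseChange S) (π.baseChange S)
    rw [LinearMap.baseChange_eq_ltensor, LinearMap.baseChange_eq_ltensor]
    exact lTensor_exact (R := R) (M := K) (N := M →₀ R) (P := M) S (LinearMap.exact_subtype_ker_map π)
      (Finsupp.linearCombination_id_surjective R M)
  have h1 := LinearMap.lTensor_injective_of_exact_of_flat (π.baseChange S) hπ g hg hex N
  let eK := TensorProduct.AlgebraTensorModule.cancelBaseChange R S S N K
  let eF := TensorProduct.AlgebraTensorModule.cancelBaseChange R S S N (M →₀ R)
  have key : ∀ z, eF (g.lTensor N z) = K.subtype.lTensor N (eK z) := fun z => by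
    induction z with
    | zero => simp
    | tmul n w =>
      induction w with
      | zero => simp
      | tmul s k => simp [eK, eF, g]
      | add a b ha hb => simp only [TensorProduct.tmul_add, map_add, ha, hb]
    | add a b ha hb => simp only [map_add, ha, hb]
  have h2 : Function.Injective (K.subtype.lTensor N) := by
    intro a b hab
    obtain ⟨a, rfl⟩ := eK.surjective a
    obtain ⟨b, rfl⟩ := eK.surjective b
    rw [← key, ← key] at hab
    exact congrArg eK (h1 (eF.injective hab))
  intro a b hab
  refine (TensorProduct.comm R K N).injective (h2 ?_)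
  have key' : ∀ z, K.subtype.lTensor N (TensorProduct.comm R K N z) =
      TensorProduct.comm R (M →₀ R) N (K.subtype.rTensor N z) := fun z => by
    induction z with
    | zero => simp
    | tmul x y => simp
    | add x y hx hy => simp [hx, hy]
  rw [key', key', hab]

end General

variable {R R' : Type u} [CommRing R] [CommRing R'] [Algebra R R'] {f : R}
  (h : EtGlue.IsGlueingPair R R' f)

include h

lemma good_ring (M : Type u) [AddCommGroup M] [Module R M]
    [Module.Flat (Localization.Away f) (Localization.Away f ⊗[R] M)] : Good (R := R) M R' := by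
  let Rf := Localization.Away f
  let Rf' := Localization.Away (algebraMap R R' f)
  let ν : Rf →+* Rf' := Localization.awayMap (algebraMap R R') f
  have hν : ∀ r, ν (algebraMap R Rf r) = algebraMap R Rf' r := fun r => by
    rw [IsScalarTower.algebraMap_apply R R' Rf']
    simp [ν, Localization.awayMap, IsLocalization.Away.map, IsLocalization.map_eq, Rf']
  letI : Algebra Rf Rf' := ν.toAlgebra
  haveI : IsScalarTower R Rf Rf' := IsScalarTower.of_algebraMap_eq fun r => (hν r).symm
  let i : R →ₗ[R] R' × Rf := (Algebra.linearMap R R').prod (Algebra.linearMap R Rf)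
  let d : R' × Rf →ₗ[R] Rf' :=
    (IsScalarTower.toAlgHom R R' Rf').toLinearMap.coprod (-(IsScalarTower.toAlgHom R Rf Rf').toLinearMap)
  obtain ⟨-, h1, h2, h3⟩ := h
  have hd : Function.Surjective d := fun z => by
    obtain ⟨x, y, hxy⟩ := h3 z
    exact ⟨(x, y), by rw [← hxy]; simp [d, sub_eq_add_neg, RingHom.algebraMap_toAlgebra, ν, Rf']⟩
  have hex : Function.Exact i d := by
    rintro ⟨x, y⟩
    constructor
    · intro hxy
      obtain ⟨r, rfl, rfl⟩ := h2 x y (by
        rw [← sub_eq_zero, ← hxy]; simp [d, sub_eq_add_neg, RingHom.algebraMap_toAlgebra, ν, Rf'])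
      exact ⟨r, rfl⟩
    · rintro ⟨r, hr⟩
      rw [← hr]
      simp [i, d, ← IsScalarTower.algebraMap_apply]
  have hflat : ∀ (N : Type u) [AddCommGroup N] [Module R N] [Module Rf N] [IsScalarTower R Rf N],
      Good (R := R) M N := fun N _ _ _ _ => good_of_module (R := R) (S := Rf)
        (Module.Flat.lTensor_preserves_injective_linearMap _ Subtype.val_injective) N
  have hR : Good (R := R) M R := Module.Flat.rTensor_preserves_injective_linearMap _ Subtype.val_injective
  have hprod : Good (R := R) M (R' × Rf) := good_of_middle h1 hd hex hR (hflat Rf')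
  intro a b hab
  have hret : ∀ z, (LinearMap.fst R R' Rf).lTensor (LinearMap.ker (Finsupp.linearCombination R (id : M → M)))
      ((LinearMap.inl R R' Rf).lTensor _ z) = z := fun z => by
    rw [← LinearMap.lTensor_comp_apply, LinearMap.fst_comp_inl, LinearMap.lTensor_id, LinearMap.id_apply]
  rw [← hret a, ← hret b]
  congr 1
  refine hprod ?_
  rw [← LinearMap.comp_apply, LinearMap.rTensor_comp_lTensor, ← LinearMap.comp_apply (f := LinearMap.rTensor (R' × Rf) _),
    LinearMap.rTensor_comp_lTensor, ← LinearMap.lTensor_comp_rTensor, LinearMap.comp_apply, LinearMap.comp_apply]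
  exact congrArg _ hab

lemma good_of_hyp_torsion (M : Type u) [AddCommGroup M] [Module R M]
    [Module.Flat R' (R' ⊗[R] M)] [Module.Flat (Localization.Away f) (Localization.Away f ⊗[R] M)]
    {T : Type u} [AddCommGroup T] [Module R T] (hT : ∀ t : T, ∃ n : ℕ, f ^ n • t = 0) : Good (R := R) M T := by
  refine good_congr (LinearEquiv.ofBijective _ (mk_bijective_of_torsion h.1 hT)).symm
    (good_of_module (R := R) (S := R') ?_ _)
  intro a b hab
  refine (TensorProduct.comm R _ _).injective (good_ring h M ?_)
  have key : ∀ z, (LinearMap.ker (Finsupp.linearCombination R (id : M → M))).subtype.rTensor R'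
      (TensorProduct.comm R R' _ z) = TensorProduct.comm R R' (M →₀ R)
      ((LinearMap.ker (Finsupp.linearCombination R (id : M → M))).subtype.lTensor R' z) := fun z => by
    induction z with
    | zero => simp
    | tmul x y => simp
    | add x y hx hy => simp [hx, hy]
  rw [key, key, hab]

lemma flat_of_baseChange (M : Type u) [AddCommGroup M] [Module R M]
    [Module.Flat R' (R' ⊗[R] M)] [Module.Flat (Localization.Away f) (Localization.Away f ⊗[R] M)] :
    Module.Flat R M := by
  let Rf := Localization.Away f
  let π : (M →₀ R) →ₗ[R] M := Finsupp.linearCombination R id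
  let K := LinearMap.ker π
  -- the syzygy again satisfies the hypotheses
  have hstep : ∀ (S : Type u) [CommRing S] [Algebra R S] [Module.Flat S (S ⊗[R] M)],
      Function.Injective (K.subtype.lTensor S) → Module.Flat S (S ⊗[R] K) := by
    intro S _ _ _ hS
    have hπ : Function.Surjective (π.baseChange S) := by
      rw [LinearMap.baseChange_eq_ltensor]
      exact LinearMap.lTensor_surjective S (Finsupp.linearCombination_id_surjective R M)
    have hex : Function.Exact (K.subtype.baseChange S) (π.baseChange S) := by
      rw [LinearMap.baseChange_eq_ltensor, LinearMap.baseChange_eq_ltensor]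
      exact lTensor_exact (R := R) (M := K) (N := M →₀ R) (P := M) S (LinearMap.exact_subtype_ker_map π)
        (Finsupp.linearCombination_id_surjective R M)
    have hinj : Function.Injective (K.subtype.baseChange S) := by rw [LinearMap.baseChange_eq_ltensor]; exact hS
    rw [Module.Flat.iff_rTensor_injective']
    intro I a b hab
    have h1 := LinearMap.lTensor_injective_of_exact_of_flat (π.baseChange S) hπ _ hinj hex I
    refine h1 (Module.Flat.rTensor_preserves_injective_linearMap (M := S ⊗[R] (M →₀ R)) I.subtype Subtype.val_injective ?_)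
    rw [← LinearMap.comp_apply, LinearMap.rTensor_comp_lTensor, ← LinearMap.comp_apply (f := LinearMap.rTensor _ _),
      LinearMap.rTensor_comp_lTensor, ← LinearMap.lTensor_comp_rTensor, LinearMap.comp_apply, LinearMap.comp_apply, hab]
  haveI : Module.Flat R' (R' ⊗[R] K) := hstep R' (by
    intro a b hab
    refine (TensorProduct.comm R _ _).injective (good_ring h M ?_)
    have key : ∀ z, K.subtype.rTensor R' (TensorProduct.comm R R' _ z) =
        TensorProduct.comm R R' (M →₀ R) (K.subtype.lTensor R' z) := fun z => by
      induction z with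
      | zero => simp
      | tmul x y => simp
      | add x y hx hy => simp [hx, hy]
    exact (key a).trans ((congrArg _ hab).trans (key b).symm))
  haveI : Module.Flat Rf (Rf ⊗[R] K) := hstep Rf
    (Module.Flat.lTensor_preserves_injective_linearMap _ Subtype.val_injective)
  have hall : ∀ (N : Type u) [AddCommGroup N] [Module R N], Good (R := R) M N := by
    intro N _ _
    let lf := LocalizedModule.mkLinearMap (Submonoid.powers f) N
    have hT : ∀ t : LinearMap.ker lf, ∃ n : ℕ, f ^ n • t = 0 := fun t => by
      obtain ⟨n, hn⟩ := (localized_eq_zero_iff (f := f) (t : N)).mp t.2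
      exact ⟨n, Subtype.ext hn⟩
    have hC : ∀ c : LocalizedModule (Submonoid.powers f) N ⧸ LinearMap.range lf, ∃ n : ℕ, f ^ n • c = 0 := by
      intro c
      obtain ⟨y, rfl⟩ := Submodule.Quotient.mk_surjective _ c
      obtain ⟨n, x, hx⟩ := exists_surj (f := f) y
      exact ⟨n, by rw [← Submodule.Quotient.mk_smul, Submodule.Quotient.mk_eq_zero]; exact ⟨x, hx.symm⟩⟩
    have hloc : Good (R := R) M (LocalizedModule (Submonoid.powers f) N) :=
      good_of_module (R := R) (S := Rf) (Module.Flat.lTensor_preserves_injective_linearMap _ Subtype.val_injective) _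
    have hrange : Good (R := R) M (LinearMap.range lf) :=
      good_of_left (g := (LinearMap.range lf).subtype) (p := (LinearMap.range lf).mkQ) Subtype.val_injective
        (Submodule.mkQ_surjective _) (LinearMap.exact_subtype_mkQ _) hloc
        (good_of_hyp_torsion h K hC)
    refine good_of_middle (g := (LinearMap.ker lf).subtype) (p := lf.rangeRestrict) Subtype.val_injective
      lf.surjective_rangeRestrict ?_ (good_of_hyp_torsion h M hT) hrange
    intro x
    constructor
    · intro hx; exact ⟨⟨x, congrArg Subtype.val hx⟩, rfl⟩
    · rintro ⟨t, rfl⟩; exact Subtype.ext t.2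
  rw [Module.Flat.iff_lTensor_injective']
  intro I
  exact lTensor_injective_of_good Subtype.val_injective (Submodule.mkQ_surjective I) (LinearMap.exact_subtype_mkQ I) (hall _)

lemma flat_iff (M : Type u) [AddCommGroup M] [Module R M] :
    Module.Flat R M ↔ Module.Flat R' (R' ⊗[R] M) ∧
      Module.Flat (Localization.Away f) (LocalizedModule (Submonoid.powers f) M) := by
  let e : Localization.Away f ⊗[R] M ≃ₗ[Localization.Away f] LocalizedModule (Submonoid.powers f) M :=
    (IsLocalizedModule.isBaseChange (Submonoid.powers f) (Localization.Away f)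
      (LocalizedModule.mkLinearMap (Submonoid.powers f) M)).equiv
  constructor
  · intro _
    exact ⟨inferInstance, Module.Flat.of_linearEquiv e.symm⟩
  · rintro ⟨h1, h2⟩
    have := Module.Flat.of_linearEquiv e
    exact flat_of_baseChange h M

lemma finite_projective_iff (M : Type u) [AddCommGroup M] [Module R M] :
    (Module.Finite R M ∧ Module.Projective R M) ↔
      (Module.Finite R' (R' ⊗[R] M) ∧ Module.Projective R' (R' ⊗[R] M)) ∧
      (Module.Finite (Localization.Away f) (LocalizedModule (Submonoid.powers f) M) ∧
        Module.Projective (Localization.Away f) (LocalizedModule (Submonoid.powers f) M)) := by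
  constructor
  · rintro ⟨_, _⟩
    exact ⟨⟨inferInstance, inferInstance⟩, ((finite_iff h.1).mp inferInstance).2,
      Module.projective_of_isLocalizedModule (Submonoid.powers f)
        (LocalizedModule.mkLinearMap (Submonoid.powers f) M)⟩
  rintro ⟨⟨_, _⟩, _, _⟩
  haveI hfin : Module.Finite R M := (finite_iff h.1).mpr ⟨‹_›, ‹_›⟩
  haveI hflat : Module.Flat R M := (flat_iff h M).mpr ⟨inferInstance, inferInstance⟩
  refine ⟨hfin, ?_⟩
  obtain ⟨n, π, hπ⟩ := Module.Finite.exists_fin' R M
  have hK : Module.Finite R (LinearMap.ker π) := by
    have hfinK : ∀ (S : Type u) [CommRing S] [Algebra R S] [Module.FinitePresentation S (S ⊗[R] M)],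
        Module.Finite S (S ⊗[R] LinearMap.ker π) := by
      intro S _ _ _
      have hex := lTensor_exact (R := R) (M := LinearMap.ker π) (N := Fin n → R) (P := M) S
        (LinearMap.exact_subtype_ker_map π) hπ
      have hinj : Function.Injective ((LinearMap.ker π).subtype.baseChange S) := by
        rw [LinearMap.baseChange_eq_ltensor]
        exact LinearMap.lTensor_injective_of_exact_of_flat π hπ _ Subtype.val_injective
          (LinearMap.exact_subtype_ker_map π) S
      have hs : Function.Surjective (π.baseChange S) := by
        rw [LinearMap.baseChange_eq_ltensor]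
        exact LinearMap.lTensor_surjective S hπ
      have heq : LinearMap.ker (π.baseChange S) = LinearMap.range ((LinearMap.ker π).subtype.baseChange S) := by
        apply le_antisymm
        · intro x hx
          obtain ⟨y, hy⟩ := (hex x).mp hx
          exact ⟨y, hy⟩
        · rintro _ ⟨y, rfl⟩
          exact (hex _).mpr ⟨y, rfl⟩
      have hfg := Module.FinitePresentation.fg_ker _ hs
      rw [heq] at hfg
      haveI := Module.Finite.iff_fg.mpr hfg
      exact Module.Finite.equiv (LinearEquiv.ofInjective _ hinj).symm
    let e : Localization.Away f ⊗[R] M ≃ₗ[Localization.Away f] LocalizedModule (Submonoid.powers f) M :=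
      (IsLocalizedModule.isBaseChange (Submonoid.powers f) (Localization.Away f)
        (LocalizedModule.mkLinearMap (Submonoid.powers f) M)).equiv
    haveI : Module.FinitePresentation R' (R' ⊗[R] M) := Module.finitePresentation_of_projective _ _
    haveI : Module.FinitePresentation (Localization.Away f) (LocalizedModule (Submonoid.powers f) M) :=
      Module.finitePresentation_of_projective _ _
    haveI : Module.FinitePresentation (Localization.Away f) (Localization.Away f ⊗[R] M) :=
      Module.FinitePresentation.of_equiv e.symm
    refine (finite_iff h.1).mpr ⟨hfinK R', ?_⟩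
    haveI := hfinK (Localization.Away f)
    exact Module.Finite.equiv (IsLocalizedModule.isBaseChange (Submonoid.powers f) (Localization.Away f)
        (LocalizedModule.mkLinearMap (Submonoid.powers f) (LinearMap.ker π))).equiv
  haveI := Module.finitePresentation_of_surjective π hπ (Module.Finite.iff_fg.mp hK)
  exact Module.Flat.projective_of_finitePresentation

end Groth.Agent.EtGlueLib
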