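import Mathlib

/-!
# Torsion modules and flat ring maps with the same quotient

If `R → S` is flat and `R/I → S/IS` is bijective, then every `I`-power torsion module is its own
base change.
-/

set_option autoImplicit false

universe u

open TensorProduct

namespace Groth.Agent.EtGlueLib.FlatTorsion

variable {R S : Type u} [CommRing R] [CommRing S] [Algebra R S] {I : Ideal R}
  (hq : Function.Bijective
    (Ideal.quotientMap (I.map (algebraMap R S)) (algebraMap R S) Ideal.le_comap_map))

include hq

lemma exists_sub_mem (a : S) : ∃ r : R, a - algebraMap R S r ∈ I.map (algebraMap R S) := by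
  obtain ⟨r, hr⟩ := hq.2 (Ideal.Quotient.mk _ a)
  obtain ⟨r, rfl⟩ := Ideal.Quotient.mk_surjective r
  rw [Ideal.quotientMap_mk, eq_comm, Ideal.Quotient.eq] at hr
  exact ⟨r, hr⟩

lemma mem_of_map_mem {r : R} (h : algebraMap R S r ∈ I.map (algebraMap R S)) : r ∈ I := by
  rw [← Ideal.Quotient.eq_zero_iff_mem]
  refine hq.1 ?_
  rw [map_zero, Ideal.quotientMap_mk, Ideal.Quotient.eq_zero_iff_mem]
  exact h

lemma mk_bijective_of_killed {T : Type u} [AddCommGroup T] [Module R T]
    (hT : ∀ a ∈ I, ∀ t : T, a • t = 0) : Function.Bijective (TensorProduct.mk R S T 1) := by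
  choose r hr using exists_sub_mem hq
  have wd : ∀ (a : S) (s : R), a - algebraMap R S s ∈ I.map (algebraMap R S) → ∀ t : T, s • t = r a • t := by
    intro a s hs t
    rw [← sub_eq_zero, ← sub_smul]
    refine hT _ (mem_of_map_mem hq ?_) t
    have := Ideal.sub_mem _ (hr a) hs
    rwa [sub_sub_sub_cancel_left, ← map_sub] at this
  let ψ : S →ₗ[R] T →ₗ[R] T :=
    { toFun := fun a => LinearMap.lsmul R T (r a)
      map_add' := fun a a' => LinearMap.ext fun t => by
        show r (a + a') • t = r a • t + r a' • t
        rw [← add_smul]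
        refine (wd _ _ ?_ t).symm
        rw [map_add, add_sub_add_comm]
        exact Ideal.add_mem _ (hr a) (hr a')
      map_smul' := fun c a => LinearMap.ext fun t => by
        show r (c • a) • t = c • (r a • t)
        rw [← mul_smul]
        refine (wd _ _ ?_ t).symm
        rw [Algebra.smul_def, map_mul, ← mul_sub]
        exact Ideal.mul_mem_left _ _ (hr a) }
  have h0 : ∀ z ∈ I.map (algebraMap R S), ∀ t : T, z ⊗ₜ[R] t = 0 := by
    intro z hz
    induction hz using Submodule.span_induction with
    | mem x hx =>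
      obtain ⟨a, ha, rfl⟩ := hx
      intro t
      rw [Algebra.algebraMap_eq_smul_one, TensorProduct.smul_tmul, hT a ha, TensorProduct.tmul_zero]
    | zero => exact fun t => TensorProduct.zero_tmul _ _
    | add x y _ _ hx hy => exact fun t => by rw [TensorProduct.add_tmul, hx, hy, add_zero]
    | smul c x _ hx =>
      intro t
      have : (c • x) ⊗ₜ[R] t = c • (x ⊗ₜ[R] t) := (TensorProduct.smul_tmul' c x t).symm
      rw [this, hx, smul_zero]
  refine ⟨fun s t hst => ?_, fun x => ?_⟩
  · have h1 : ∀ t : T, TensorProduct.lift ψ ((1 : S) ⊗ₜ t) = t := fun t => by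
      show r 1 • t = t
      rw [← wd 1 1 (by simp) t, one_smul]
    have := congrArg (TensorProduct.lift ψ) hst
    rwa [TensorProduct.mk_apply, TensorProduct.mk_apply, h1, h1] at this
  · induction x with
    | zero => exact ⟨0, map_zero _⟩
    | tmul a t =>
      refine ⟨r a • t, ?_⟩
      rw [TensorProduct.mk_apply, ← TensorProduct.smul_tmul, ← Algebra.algebraMap_eq_smul_one, ← sub_eq_zero,
        ← TensorProduct.sub_tmul]
      refine h0 _ ?_ t
      rw [← neg_sub]
      exact neg_mem (hr a)
    | add x y hx hy =>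
      obtain ⟨s, rfl⟩ := hx; obtain ⟨t, rfl⟩ := hy
      exact ⟨s + t, map_add _ _ _⟩

variable [Module.Flat R S]

lemma mk_bijective_of_pow_killed (n : ℕ) : ∀ {T : Type u} [AddCommGroup T] [Module R T],
    (∀ a ∈ I ^ n, ∀ t : T, a • t = 0) → Function.Bijective (TensorProduct.mk R S T 1) := by
  induction n with
  | zero =>
    intro T _ _ hT
    have hz : ∀ t : T, t = 0 := fun t => by
      have := hT 1 (by simp) t
      rwa [one_smul] at this
    refine ⟨fun s t _ => (hz s).trans (hz t).symm, fun x => ⟨0, ?_⟩⟩
    induction x with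
    | zero => exact map_zero _
    | tmul a t => rw [map_zero, hz t, TensorProduct.tmul_zero]
    | add x y hx hy => rw [← hx, ← hy, map_zero, add_zero]
  | succ n ih =>
    intro T _ _ hT
    have hN : ∀ a ∈ I ^ n, ∀ t : ↥(I • (⊤ : Submodule R T)), a • t = 0 := by
      intro a ha t
      refine Subtype.ext ?_
      have ht := t.2
      show a • (t : T) = 0
      refine Submodule.smul_induction_on ht (fun r hr x _ => ?_) (fun x y hx hy => by rw [smul_add, hx, hy, add_zero])
      rw [smul_smul]
      exact hT _ (by rw [pow_succ]; exact Ideal.mul_mem_mul ha hr) x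
    have hQ : ∀ a ∈ I, ∀ t : T ⧸ I • (⊤ : Submodule R T), a • t = 0 := by
      intro a ha t
      obtain ⟨x, rfl⟩ := Submodule.Quotient.mk_surjective _ t
      rw [← Submodule.Quotient.mk_smul, Submodule.Quotient.mk_eq_zero]
      exact Submodule.smul_mem_smul ha Submodule.mem_top
    have bN := ih hN
    have bQ := mk_bijective_of_killed hq hQ
    clear hN hQ ih hT
    generalize I • (⊤ : Submodule R T) = N at bN bQ
    have ιinj : Function.Injective (N.subtype.lTensor S) :=
      Module.Flat.lTensor_preserves_injective_linearMap _ Subtype.val_injective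
    have hexact : Function.Exact (N.subtype.lTensor S) (N.mkQ.lTensor S) :=
      lTensor_exact (M := N) (N := T) (P := T ⧸ N) S (LinearMap.exact_subtype_mkQ N) N.mkQ_surjective
    refine ⟨?_, fun x => ?_⟩
    · rw [injective_iff_map_eq_zero]
      intro t ht
      rw [TensorProduct.mk_apply] at ht
      have h1 : N.mkQ t = 0 := bQ.1 (by
        rw [map_zero, TensorProduct.mk_apply, ← LinearMap.lTensor_tmul, ht, map_zero])
      have htN : t ∈ N := (Submodule.Quotient.mk_eq_zero N).mp h1
      have h2 : (⟨t, htN⟩ : N) = 0 := bN.1 (by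
        rw [map_zero, TensorProduct.mk_apply]
        refine ιinj ?_
        rw [map_zero, LinearMap.lTensor_tmul]
        exact ht)
      simpa using congrArg Subtype.val h2
    · obtain ⟨q, hq'⟩ := bQ.2 (N.mkQ.lTensor S x)
      obtain ⟨t, rfl⟩ := N.mkQ_surjective q
      have : N.mkQ.lTensor S (x - (1 : S) ⊗ₜ t) = 0 := by
        rw [map_sub, LinearMap.lTensor_tmul, ← TensorProduct.mk_apply, hq', sub_self]
      obtain ⟨y, hy⟩ := (hexact _).mp this
      obtain ⟨n', rfl⟩ := bN.2 y
      refine ⟨t + (n' : T), ?_⟩
      rw [TensorProduct.mk_apply, TensorProduct.tmul_add]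
      rw [TensorProduct.mk_apply, LinearMap.lTensor_tmul, Submodule.subtype_apply] at hy
      rw [hy, add_sub_cancel]

/-- An `I`-power torsion module is its own base change along a flat map with the same quotient. -/
lemma mk_bijective_of_torsion {T : Type u} [AddCommGroup T] [Module R T]
    (hT : ∀ t : T, ∃ n : ℕ, ∀ a ∈ I ^ n, a • t = 0) : Function.Bijective (TensorProduct.mk R S T 1) := by
  constructor
  · rw [injective_iff_map_eq_zero]
    intro t ht
    obtain ⟨n, hn⟩ := hT t
    have hN : ∀ a ∈ I ^ n, ∀ x : ↥(Submodule.span R {t}), a • x = 0 := by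
      rintro a ha ⟨x, hx⟩
      obtain ⟨r, rfl⟩ := Submodule.mem_span_singleton.mp hx
      refine Subtype.ext ?_
      show a • (r • t) = 0
      rw [smul_comm, hn a ha, smul_zero]
    have b := mk_bijective_of_pow_killed hq n hN
    have h2 : (⟨t, Submodule.mem_span_singleton_self t⟩ : Submodule.span R {t}) = 0 := b.1 (by
      rw [map_zero, TensorProduct.mk_apply]
      refine Module.Flat.lTensor_preserves_injective_linearMap (M := S) (Submodule.span R {t}).subtype
        Subtype.val_injective ?_
      rw [map_zero, LinearMap.lTensor_tmul]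
      exact ht)
    simpa using congrArg Subtype.val h2
  · intro x
    induction x with
    | zero => exact ⟨0, map_zero _⟩
    | tmul a t =>
      obtain ⟨n, hn⟩ := hT t
      have hN : ∀ c ∈ I ^ n, ∀ x : ↥(Submodule.span R {t}), c • x = 0 := by
        rintro c hc ⟨x, hx⟩
        obtain ⟨r, rfl⟩ := Submodule.mem_span_singleton.mp hx
        refine Subtype.ext ?_
        show c • (r • t) = 0
        rw [smul_comm, hn c hc, smul_zero]
      obtain ⟨s, hs⟩ := (mk_bijective_of_pow_killed hq n hN).2 (a ⊗ₜ ⟨t, Submodule.mem_span_singleton_self t⟩)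
      exact ⟨(s : T), congrArg ((Submodule.span R {t}).subtype.lTensor S) hs⟩
    | add x y hx hy =>
      obtain ⟨s, rfl⟩ := hx; obtain ⟨t, rfl⟩ := hy
      exact ⟨s + t, map_add _ _ _⟩

end Groth.Agent.EtGlueLib.FlatTorsion
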