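import Groth.Agent.EtGlueLib.Basic
import Groth.Agent.TorOne.Basic
import Groth.Prelude.Def_DRing2
import Mathlib

/-! `Tor₁` against torsion modules for glueing pairs. -/

universe u

open TensorProduct CategoryTheory

namespace Groth.Agent.EtGlueLib

variable {R R' : Type u} [CommRing R] [CommRing R'] [Algebra R R'] {f : R}

/-- The torsion of `R'` comes from the torsion of `R`. -/
lemma exists_of_pow_mul_eq_zero (h : EtGlue.IsGlueingPair R R' f) (k : ℕ) {x : R'}
    (hx : algebraMap R R' (f ^ k) * x = 0) : ∃ r : R, algebraMap R R' r = x ∧ f ^ k * r = 0 := by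
  have hu : IsUnit (algebraMap R' (Localization.Away (algebraMap R R' f)) (algebraMap R R' (f ^ k))) := by
    rw [map_pow, map_pow]
    exact (IsLocalization.Away.algebraMap_isUnit _).pow k
  obtain ⟨r, hr, hr'⟩ := h.2.2.1 x 0 (by
    rw [map_zero, ← hu.mul_right_eq_zero, ← map_mul, hx, map_zero])
  refine ⟨r, hr, h.2.1 ?_⟩
  simp only [map_mul, map_zero, hr', mul_zero, hr, hx]

/-- A presentation test for `Tor₁(R', T) = 0`. -/
theorem subsingleton_tor_iff {T F : Type u} [AddCommGroup T] [Module R T] [AddCommGroup F] [Module R F]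
    [Module.Projective R F] (g : F →ₗ[R] T) (hg : Function.Surjective g) :
    Subsingleton (DRing.Tor R 1 R' T) ↔ Function.Injective ((LinearMap.ker g).subtype.lTensor R') := by
  rw [← TorOne.isZero_tor_one_iff R' g hg, ModuleCat.isZero_iff_subsingleton]

theorem subsingleton_tor_of_torsion (h : EtGlue.IsGlueingPair R R' f) {T : Type u} [AddCommGroup T] [Module R T]
    (hT : ∀ t : T, ∃ n : ℕ, f ^ n • t = 0) : Subsingleton (DRing.Tor R 1 R' T) := by
  classical
  choose N hN using hT
  let g : (T →₀ R) →ₗ[R] T := Finsupp.linearCombination R id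
  have hg : Function.Surjective g := fun t => ⟨Finsupp.single t 1, by simp [g]⟩
  let D : (T →₀ R) →ₗ[R] (T →₀ R) := Finsupp.lsum R fun t => f ^ N t • Finsupp.lsingle t
  have hD : ∀ v, g (D v) = 0 := fun v => by
    induction v using Finsupp.induction_linear with
    | zero => simp
    | add x y hx hy => rw [map_add, map_add, hx, hy, add_zero]
    | single t r => simp only [D, g, Finsupp.lsum_single, LinearMap.smul_apply, Finsupp.lsingle_apply, map_smul, Finsupp.linearCombination_single, id, smul_comm (f ^ N t) r, hN, smul_zero]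
  have hDapply : ∀ v t, D v t = f ^ N t * v t := fun v t => by
    induction v using Finsupp.induction_linear with
    | zero => simp
    | add x y hx hy => rw [map_add, Finsupp.add_apply, hx, hy, Finsupp.add_apply, mul_add]
    | single s r =>
      simp only [D, Finsupp.lsum_single, LinearMap.smul_apply, Finsupp.lsingle_apply, Finsupp.smul_single, smul_eq_mul,
        Finsupp.single_apply]
      split <;> simp_all
  rw [subsingleton_tor_iff g hg, injective_iff_map_eq_zero]
  set K := LinearMap.ker g with hK
  let μ : (T →₀ R) →ₗ[R] K := D.codRestrict K fun v => LinearMap.mem_ker.mpr (hD v)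
  -- every element is `1 ⊗ k` up to the image of `μ`
  have hdec : ∀ z : R' ⊗[R] K, ∃ (k : K) (w : R' ⊗[R] (T →₀ R)), z = (1 : R') ⊗ₜ[R] k + μ.lTensor R' w := by
    intro z
    induction z with
    | zero => exact ⟨0, 0, by simp⟩
    | tmul a k =>
      let n := (k : T →₀ R).support.sup N
      obtain ⟨r, b, hrb⟩ := exists_sub_eq h.1 n a
      have hv : ∃ v, μ v = f ^ n • k := by
        refine ⟨(k : T →₀ R).mapRange id rfl - (k : T →₀ R) + ∑ t ∈ (k : T →₀ R).support, Finsupp.single t (f ^ (n - N t) * (k : T →₀ R) t), Subtype.ext (Finsupp.ext fun s => ?_)⟩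
        rw [LinearMap.codRestrict_apply, hDapply, Finsupp.mapRange_id, sub_self, zero_add, Finsupp.finsetSum_apply]
        simp only [Finsupp.single_apply, Finset.sum_ite_eq', SetLike.val_smul, Finsupp.smul_apply, smul_eq_mul]
        split
        next hs => rw [← mul_assoc, ← pow_add, Nat.add_sub_cancel' (Finset.le_sup (f := N) hs)]
        next hs => rw [Finsupp.notMem_support_iff.mp hs, mul_zero, mul_zero]
      obtain ⟨v, hv⟩ := hv
      refine ⟨r • k, b ⊗ₜ v, ?_⟩
      rw [LinearMap.lTensor_tmul, hv, sub_eq_iff_eq_add.mp hrb, TensorProduct.add_tmul, add_comm, ← TensorProduct.smul_tmul,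
        ← TensorProduct.smul_tmul, Algebra.smul_def r, Algebra.smul_def (f ^ n), mul_one]
    | add x y hx hy =>
      obtain ⟨k, w, rfl⟩ := hx; obtain ⟨k', w', rfl⟩ := hy
      exact ⟨k + k', w + w', by rw [TensorProduct.tmul_add, map_add]; abel⟩
  intro z hz
  obtain ⟨k, w, rfl⟩ := hdec z
  let e := TensorProduct.finsuppScalarRight R R R' T
  have he : ∀ (w : R' ⊗[R] (T →₀ R)) (t : T), e (D.lTensor R' w) t = algebraMap R R' (f ^ N t) * e w t := by
    intro w t
    induction w with
    | zero => simp
    | tmul a v =>
      simp only [LinearMap.lTensor_tmul, e, TensorProduct.finsuppScalarRight_apply_tmul_apply, hDapply]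
      rw [mul_smul, Algebra.smul_def (f ^ N t)]
    | add x y hx hy => simp only [map_add, Finsupp.add_apply, hx, hy, mul_add]
  have hz' : ∀ t, algebraMap R R' ((k : T →₀ R) t) + algebraMap R R' (f ^ N t) * e w t = 0 := fun t => by
    have h1 : (1 : R') ⊗ₜ[R] (k : T →₀ R) + D.lTensor R' w = 0 := by
      rw [map_add, LinearMap.lTensor_tmul] at hz
      rw [← hz, ← LinearMap.comp_apply (K.subtype.lTensor R'), ← LinearMap.lTensor_comp]
      rfl
    have := congrArg (fun q => e q t) h1
    simp only [map_add, Finsupp.add_apply, map_zero, Finsupp.zero_apply, he] at this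
    simpa [e, TensorProduct.finsuppScalarRight_apply_tmul_apply, Algebra.smul_def] using this
  -- `k` lies in the image of `D`
  have hy : ∀ t, ∃ s : R, (k : T →₀ R) t = f ^ N t * s := fun t =>
    exists_eq_pow_mul h.1 (N t) (r := (k : T →₀ R) t) (b := -e w t) (by linear_combination hz' t)
  choose y hy using hy
  let yv : T →₀ R := ∑ t ∈ (k : T →₀ R).support, Finsupp.single t (y t)
  have hk : k = μ yv := Subtype.ext (Finsupp.ext fun s => by
    rw [LinearMap.codRestrict_apply, hDapply]
    simp only [yv, Finsupp.finsetSum_apply, Finsupp.single_apply, Finset.sum_ite_eq']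
    split
    next hs => exact hy s
    next hs => rw [Finsupp.notMem_support_iff.mp hs, mul_zero])
  rw [hk, ← LinearMap.lTensor_tmul, ← map_add]
  set w' := (1 : R') ⊗ₜ[R] yv + w with hw'
  have hw0 : ∀ t, algebraMap R R' (f ^ N t) * e w' t = 0 := fun t => by
    rw [← he, hw', map_add, map_add, Finsupp.add_apply, LinearMap.lTensor_tmul]
    have : D yv = (k : T →₀ R) := by rw [hk]; rfl
    rw [this, he, TensorProduct.finsuppScalarRight_apply_tmul_apply, Algebra.smul_def, mul_one]
    exact hz' t
  -- coordinates come from the torsion of `R`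
  choose v hv hv' using fun t => exists_of_pow_mul_eq_zero h (N t) (hw0 t)
  have hw : w' = ∑ t ∈ (e w').support, (1 : R') ⊗ₜ[R] Finsupp.single t (v t) := by
    refine e.injective (Finsupp.ext fun s => ?_)
    rw [map_sum, Finsupp.finsetSum_apply]
    simp only [e, TensorProduct.finsuppScalarRight_apply_tmul_apply, Finsupp.single_apply, ite_smul, zero_smul, Finset.sum_ite_eq']
    split
    next hs => rw [Algebra.smul_def, mul_one, hv]
    next hs => exact Finsupp.notMem_support_iff.mp hs
  rw [hw, map_sum]
  refine Finset.sum_eq_zero fun t _ => ?_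
  rw [LinearMap.lTensor_tmul, show μ (Finsupp.single t (v t)) = 0 from Subtype.ext (Finsupp.ext fun s => by
    rw [LinearMap.codRestrict_apply, hDapply, Submodule.coe_zero, Finsupp.zero_apply, Finsupp.single_apply]
    split
    next hs => subst hs; exact hv' t
    next hs => exact mul_zero _), TensorProduct.tmul_zero]

end Groth.Agent.EtGlueLib
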